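import Cfsg.Agent.H52.RegPair.Linear

/-! The ring spanned by an abelian normal subgroup of a primitive linear group is a field. -/

set_option autoImplicit false
set_option linter.unusedSectionVars false
set_option linter.style.haveILetI false

namespace Cfsg.Agent.H52.RegPair

open scoped Pointwise

universe u

variable {G : Type u} [Group G] {V : Type u} [AddCommGroup V] [DistribMulAction G V]

variable (V) in
/-- The subring of endomorphisms generated by a subgroup. -/
def nRing (N : Subgroup G) : Subring (AddMonoid.End V) :=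
  Subring.closure (DistribMulAction.toAddMonoidEnd G V '' (N : Set G))

variable (V) in
/-- Conjugation of endomorphisms by a group element. -/
def conjEnd (g : G) : AddMonoid.End V →+* AddMonoid.End V where
  toFun a := DistribMulAction.toAddMonoidEnd G V g * a * DistribMulAction.toAddMonoidEnd G V g⁻¹
  map_one' := by rw [mul_one, ← map_mul, mul_inv_cancel, map_one]
  map_mul' a b := by
    have h : DistribMulAction.toAddMonoidEnd G V g⁻¹ * DistribMulAction.toAddMonoidEnd G V g = 1 := by
      rw [← map_mul, inv_mul_cancel, map_one]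
    simp only [mul_assoc]
    rw [← mul_assoc (DistribMulAction.toAddMonoidEnd G V g⁻¹), h, one_mul]
  map_zero' := by rw [mul_zero, zero_mul]
  map_add' a b := by rw [mul_add, add_mul]

theorem conjEnd_apply (g : G) (a : AddMonoid.End V) (v : V) : conjEnd V g a v = g • a (g⁻¹ • v) := rfl

theorem conjEnd_mem {N : Subgroup G} [hN : N.Normal] (g : G) {a : AddMonoid.End V}
    (ha : a ∈ nRing V N) : conjEnd V g a ∈ nRing V N := by
  have h : nRing V N ≤ (nRing V N).comap (conjEnd V g) := by
    refine Subring.closure_le.2 ?_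
    rintro _ ⟨n, hn, rfl⟩
    refine Subring.subset_closure ⟨g * n * g⁻¹, hN.conj_mem n hn g, ?_⟩
    exact ((map_mul _ (g * n) g⁻¹).trans (congrArg (· * _) (map_mul _ g n)))
  exact h ha

theorem act_mem_nRing {N : Subgroup G} {n : G} (hn : n ∈ N) :
    DistribMulAction.toAddMonoidEnd G V n ∈ nRing V N :=
  Subring.subset_closure ⟨n, hn, rfl⟩

theorem nRing_comm {N : Subgroup G} (hab : ∀ a ∈ N, ∀ b ∈ N, a * b = b * a) {a b : AddMonoid.End V}
    (ha : a ∈ nRing V N) (hb : b ∈ nRing V N) : a * b = b * a := by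
  let gens := DistribMulAction.toAddMonoidEnd G V '' (N : Set G)
  have h1 : nRing V N ≤ Subring.centralizer gens := by
    refine Subring.closure_le.2 ?_
    rintro _ ⟨n, hn, rfl⟩
    refine Subring.mem_centralizer_iff.2 ?_
    rintro _ ⟨m, hm, rfl⟩
    rw [← map_mul, ← map_mul, hab m hm n hn]
  have h2 : nRing V N ≤ Subring.centralizer (nRing V N : Set (AddMonoid.End V)) := by
    refine Subring.closure_le.2 fun x hx => Subring.mem_centralizer_iff.2 fun y hy => ?_
    exact (Subring.mem_centralizer_iff.1 (h1 hy) x hx).symm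
  exact Subring.mem_centralizer_iff.1 (h2 hb) a ha

variable [Finite G] [Finite V] [Nontrivial V]

theorem isField_nRing (hirr : Irr G V) (hnim : ¬ Imprim G V) {N : Subgroup G} [N.Normal]
    (hab : ∀ a ∈ N, ∀ b ∈ N, a * b = b * a) : IsField (nRing V N) := by
  classical
  let R := nRing V N
  haveI : Finite (AddSubgroup V) :=
    Finite.of_injective (fun D : AddSubgroup V => (D : Set V)) SetLike.coe_injective
  obtain ⟨X, hXm⟩ := (Set.toFinite
    {X : AddSubgroup V | X ≠ ⊥ ∧ ∀ a ∈ R, ∀ x ∈ X, a x ∈ X}).exists_minimal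
    ⟨⊤, top_ne_bot, fun _ _ _ _ => AddSubgroup.mem_top _⟩
  obtain ⟨⟨hX0, hXR⟩, hXmin⟩ := hXm
  let D : AddSubgroup V :=
    { carrier := {v | ∀ a ∈ R, (∀ x ∈ X, a x = 0) → a v = 0}
      zero_mem' := fun a _ _ => map_zero a
      add_mem' := fun hv hw a ha hax => by rw [map_add, hv a ha hax, hw a ha hax, add_zero]
      neg_mem' := fun hv a ha hax => by rw [map_neg, hv a ha hax, neg_zero] }
  have hXD : X ≤ D := fun x hx a _ hax => hax x hx
  have hDR : ∀ a ∈ R, ∀ v ∈ D, a v ∈ D := by
    intro a ha v hv b hb hbx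
    change (b * a) v = 0
    rw [nRing_comm hab hb ha]
    show a (b v) = 0
    rw [hv b hb hbx, map_zero]
  have hinv : ∀ a ∈ R, ¬ (∀ x ∈ X, a x = 0) → ∃ b ∈ R, ∀ v ∈ D, b (a v) = v := by
    intro a ha hne
    have himg : X.map a = X := by
      refine le_antisymm (by rintro _ ⟨x, hx, rfl⟩; exact hXR a ha x hx) (hXmin ⟨?_, ?_⟩ ?_)
      · intro h
        refine hne fun x hx => ?_
        have : a x ∈ X.map a := ⟨x, hx, rfl⟩
        rwa [h, AddSubgroup.mem_bot] at this
      · rintro b hb _ ⟨x, hx, rfl⟩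
        refine ⟨b x, hXR b hb x hx, ?_⟩
        show (a * b) x = (b * a) x
        rw [nRing_comm hab ha hb]
      · rintro _ ⟨x, hx, rfl⟩
        exact hXR a ha x hx
    let f : X → X := fun x => ⟨a x, hXR a ha x x.2⟩
    have hsurj : Function.Surjective f := by
      rintro ⟨y, hy⟩
      rw [← himg] at hy
      obtain ⟨x, hx, hxy⟩ := hy
      exact ⟨⟨x, hx⟩, Subtype.ext hxy⟩
    let e : Equiv.Perm X := Equiv.ofBijective f ⟨Finite.injective_iff_surjective.2 hsurj, hsurj⟩
    obtain ⟨k, hk⟩ : ∃ k, orderOf e = k + 1 := Nat.exists_eq_succ_of_ne_zero (orderOf_pos e).ne'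
    have hpow : ∀ (n : ℕ) (x : X), ((e ^ n) x : V) = (a ^ n) (x : V) := by
      intro n
      induction n with
      | zero => intro x; rfl
      | succ n ih => intro x; rw [pow_succ, pow_succ, Equiv.Perm.mul_apply, ih]; rfl
    refine ⟨a ^ k, R.pow_mem ha k, fun v hv => ?_⟩
    have h := hv (a ^ (k + 1) - 1) (R.sub_mem (R.pow_mem ha _) R.one_mem) fun x hx => by
      show (a ^ (k + 1)) x - x = 0
      rw [← hpow (k + 1) ⟨x, hx⟩, ← hk, pow_orderOf_eq_one, Equiv.Perm.one_apply, sub_self]
    change (a ^ (k + 1)) v - v = 0 at h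
    rw [sub_eq_zero, pow_succ] at h
    exact h
  have hinj : ∀ a ∈ R, ¬ (∀ x ∈ X, a x = 0) → ∀ v ∈ D, a v = 0 → v = 0 := by
    intro a ha hne v hv h0
    obtain ⟨b, -, hb⟩ := hinv a ha hne
    rw [← hb v hv, h0, map_zero]
  have hmoved : ∀ h : G, h • D ≠ D →
      ∃ a ∈ R, (∀ v ∈ h • D, a v = 0) ∧ ∀ v ∈ D, a v = 0 → v = 0 := by
    intro h hne
    by_contra hno
    push Not at hno
    have hstep : ∀ a ∈ R, (∀ x ∈ X, a x = 0) → ∀ x ∈ X, conjEnd V h a x = 0 := by
      intro a ha hax
      by_contra hnx
      obtain ⟨v, hv, hv0, hvne⟩ := hno (conjEnd V h a) (conjEnd_mem h ha) (by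
        rintro _ ⟨w, hw, rfl⟩
        show h • a (h⁻¹ • h • w) = 0
        rw [inv_smul_smul, hw a ha hax, smul_zero])
      exact hvne (hinj _ (conjEnd_mem h ha) hnx v hv hv0)
    have hiter : ∀ n : ℕ, ∀ a ∈ R, (∀ x ∈ X, a x = 0) → ∀ x ∈ X, conjEnd V (h ^ n) a x = 0 := by
      intro n
      induction n with
      | zero => intro a _ hax x hx; rw [conjEnd_apply, pow_zero, inv_one, one_smul, one_smul, hax x hx]
      | succ n ih =>
        intro a ha hax x hx
        have := hstep _ (conjEnd_mem (h ^ n) ha) (ih a ha hax) x hx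
        rw [conjEnd_apply, conjEnd_apply] at this
        rw [conjEnd_apply, pow_succ', mul_inv_rev, mul_smul, mul_smul]
        exact this
    have hpow : ∀ n : ℕ, ∀ v ∈ D, (h ^ n)⁻¹ • v ∈ D := by
      intro n v hv a ha hax
      have := hv _ (conjEnd_mem (h ^ n) ha) (hiter n a ha hax)
      rwa [conjEnd_apply, smul_eq_zero_iff_eq] at this
    refine hne (le_antisymm ?_ fun v hv => ?_)
    · rintro _ ⟨w, hw, rfl⟩
      have := hpow (orderOf h - 1) w hw
      rw [inv_eq_of_mul_eq_one_left (show h * h ^ (orderOf h - 1) = 1 by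
        rw [← pow_succ', Nat.sub_add_cancel (orderOf_pos h), pow_orderOf_eq_one])] at this
      exact this
    · refine ⟨h⁻¹ • v, ?_, smul_inv_smul h v⟩
      have := hpow 1 v hv
      rwa [pow_one] at this
  have hDtop : D = ⊤ := by
    by_cases hfix : ∀ g : G, g • D = D
    · refine (hirr D fun g x hx => ?_).resolve_left (fun h => hX0 (eq_bot_iff.2 (h ▸ hXD)))
      rw [← hfix g]
      exact AddSubgroup.smul_mem_pointwise_smul x g D hx
    · push Not at hfix
      obtain ⟨g₀, hg₀⟩ := hfix
      refine absurd ⟨MulAction.orbit G D, fun g E hE => by obtain ⟨k, rfl⟩ := hE; exact ⟨g * k, mul_smul g k D⟩, ?_, ?_, ?_⟩ hnim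
      · exact ⟨D, MulAction.mem_orbit_self D, g₀ • D, MulAction.mem_orbit D g₀, hg₀.symm⟩
      · rintro _ ⟨g, rfl⟩ h
        refine hX0 (eq_bot_iff.2 fun x hx => ?_)
        have : g • x ∈ g • D := AddSubgroup.smul_mem_pointwise_smul x g D (hXD hx)
        change g • D = ⊥ at h
        rwa [h, AddSubgroup.mem_bot, smul_eq_zero_iff_eq] at this
      · intro s f hs hf hsum E hE
        obtain ⟨g, hg⟩ := hs hE
        change g • D = E at hg
        have key : ∀ t : Finset (AddSubgroup V), ↑t ⊆ MulAction.orbit G D → E ∉ t →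
            ∃ a ∈ R, (∀ F ∈ t, ∀ v ∈ F, a v = 0) ∧ ∀ v ∈ E, a v = 0 → v = 0 := by
          intro t
          induction t using Finset.induction_on with
          | empty => exact fun _ _ => ⟨1, R.one_mem, by simp, fun v _ h => h⟩
          | insert F t hFt ih =>
            intro ht hE'
            rw [Finset.coe_insert, Set.insert_subset_iff] at ht
            rw [Finset.mem_insert, not_or] at hE'
            obtain ⟨a, ha, hat, hai⟩ := ih ht.2 hE'.2
            obtain ⟨g', hg'⟩ := ht.1
            change g' • D = F at hg'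
            obtain ⟨b, hb, hbF, hbi⟩ := hmoved (g⁻¹ * g') (fun h => hE'.1 (by
              calc E = g • D := hg.symm
                _ = g • ((g⁻¹ * g') • D) := by rw [h]
                _ = F := by rw [smul_smul, mul_inv_cancel_left, hg']))
            refine ⟨a * conjEnd V g b, R.mul_mem ha (conjEnd_mem g hb), fun H hH v hv => ?_, fun v hv h0 => ?_⟩
            · rcases Finset.mem_insert.1 hH with rfl | hH
              · show a (conjEnd V g b v) = 0
                rw [conjEnd_apply, hbF (g⁻¹ • v) (by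
                  rw [← smul_smul, hg']; exact AddSubgroup.smul_mem_pointwise_smul v g⁻¹ _ hv),
                  smul_zero, map_zero]
              · rw [nRing_comm hab ha (conjEnd_mem g hb)]
                show conjEnd V g b (a v) = 0
                rw [hat H hH v hv, map_zero]
            · rw [← hg] at hv
              obtain ⟨w, hw, rfl⟩ := hv
              change a (conjEnd V g b (g • w)) = 0 at h0
              rw [conjEnd_apply, inv_smul_smul] at h0
              have h1 : g • b w ∈ E := hg ▸ AddSubgroup.smul_mem_pointwise_smul _ g D (hDR b hb w hw)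
              have h2 := hai _ h1 h0
              rw [smul_eq_zero_iff_eq] at h2
              show g • w = 0
              rw [hbi w hw h2, smul_zero]
        obtain ⟨a, -, hat, hai⟩ := key (s.erase E)
          (Set.Subset.trans (Finset.coe_subset.2 (Finset.erase_subset _ _)) hs) (Finset.notMem_erase _ _)
        refine hai _ (hf E hE) ?_
        have h := congrArg a hsum
        rw [map_sum, map_zero, ← Finset.add_sum_erase _ _ hE] at h
        rwa [Finset.sum_eq_zero fun F hF => hat F hF _ (hf F (Finset.mem_of_mem_erase hF)), add_zero] at h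
  obtain ⟨x₀, hx₀⟩ := exists_ne (0 : V)
  refine ⟨⟨0, 1, fun h => hx₀ ?_⟩, fun a b => Subtype.ext (nRing_comm hab a.2 b.2), ?_⟩
  · exact (congrArg (fun r : R => (r : AddMonoid.End V) x₀) h).symm
  · intro a ha
    have hne : ¬ ∀ x ∈ X, (a : AddMonoid.End V) x = 0 := by
      intro h
      refine ha (Subtype.ext (AddMonoidHom.ext fun v => ?_))
      exact (show v ∈ D from hDtop ▸ AddSubgroup.mem_top v) _ a.2 h
    obtain ⟨b, hb, hba⟩ := hinv _ a.2 hne
    refine ⟨⟨b, hb⟩, Subtype.ext (AddMonoidHom.ext fun v => ?_)⟩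
    show ((a : AddMonoid.End V) * b) v = v
    rw [nRing_comm hab a.2 hb]
    exact hba v (hDtop ▸ AddSubgroup.mem_top v)

end Cfsg.Agent.H52.RegPair
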