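import Mathlib

/-! Finite groups with a nondegenerate alternating pairing into the units of a finite field, and the
odd order groups of automorphisms of the small ones. -/

set_option autoImplicit false
set_option linter.unusedSectionVars false
set_option linter.style.haveILetI false

namespace Cfsg.Agent.H52.RegPair

universe u

variable {K : Type u} [Field K] [Finite K]

/-- A nondegenerate alternating pairing. -/
structure AltPair {W : Type u} [CommGroup W] (b : W →* W →* Kˣ) : Prop where
  self : ∀ x, b x x = 1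
  nondeg : ∀ x, (∀ y, b x y = 1) → x = 1

variable {W : Type u} [CommGroup W] {b : W →* W →* Kˣ}

theorem AltPair.symm_eq (hb : AltPair b) (x y : W) : b y x = (b x y)⁻¹ := by
  refine eq_inv_of_mul_eq_one_left ?_
  have h := hb.self (x * y)
  simp only [map_mul, MonoidHom.mul_apply, hb.self, one_mul, mul_one] at h
  exact h

theorem AltPair.eq_one_symm (hb : AltPair b) {x y : W} (h : b x y = 1) : b y x = 1 := by
  rw [hb.symm_eq, h, inv_one]

variable (b) in
/-- The orthogonal of a subgroup. -/
def perp (S : Subgroup W) : Subgroup W where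
  carrier := {x | ∀ s ∈ S, b x s = 1}
  one_mem' := fun s _ => by rw [map_one]; rfl
  mul_mem' := fun hx hy s hs => by rw [map_mul, MonoidHom.mul_apply, hx s hs, hy s hs, one_mul]
  inv_mem' := fun hx s hs => by rw [map_inv, MonoidHom.inv_apply, hx s hs, inv_one]

variable [Finite W]

/-- The induced map to the dual is bijective. -/
theorem AltPair.surjective (hb : AltPair b) (χ : W →* Kˣ) : ∃ x, b x = χ := by
  haveI := Fintype.ofFinite W
  have hli : LinearIndependent K (fun f : W →* Kˣ => fun w => ((f w : Kˣ) : K)) :=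
    (linearIndependent_monoidHom W K).comp (fun f : W →* Kˣ => (Units.coeHom K).comp f)
      fun f g h => MonoidHom.ext fun w => Units.ext (DFunLike.congr_fun h w)
  haveI : Finite (W →* Kˣ) := hli.finite
  haveI := Fintype.ofFinite (W →* Kˣ)
  have hle : Nat.card (W →* Kˣ) ≤ Nat.card W := by
    rw [Nat.card_eq_fintype_card, Nat.card_eq_fintype_card]
    exact hli.fintype_card_le_finrank.trans_eq (Module.finrank_fintype_fun_eq_card K)
  have hinj : Function.Injective b := by
    rw [injective_iff_map_eq_one]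
    exact fun x hx => hb.nondeg x fun y => by rw [hx]; rfl
  exact ((Nat.bijective_iff_injective_and_card _).2
    ⟨hinj, le_antisymm (Nat.card_le_card_of_injective _ hinj) hle⟩).2 χ

theorem AltPair.restrict (hb : AltPair b) {S : Subgroup W} (hS : S ⊓ perp b S = ⊥) :
    AltPair ((((MonoidHom.compHom' S.subtype : (W →* Kˣ) →* (S →* Kˣ))).comp b).comp S.subtype) :=
  ⟨fun x => hb.self x, fun x hx => Subtype.ext (by
    have : (x : W) ∈ S ⊓ perp b S := ⟨x.2, fun s hs => hx ⟨s, hs⟩⟩
    rwa [hS, Subgroup.mem_bot] at this)⟩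

theorem AltPair.sup_perp (hb : AltPair b) {S : Subgroup W} (hS : S ⊓ perp b S = ⊥) :
    S ⊔ perp b S = ⊤ := by
  refine eq_top_iff.2 fun x _ => ?_
  obtain ⟨s₀, hs₀⟩ := (hb.restrict hS).surjective ((b x).comp S.subtype)
  refine Subgroup.mem_sup.2 ⟨s₀, s₀.2, (s₀ : W)⁻¹ * x, fun s hs => ?_, mul_inv_cancel_left _ _⟩
  have h := DFunLike.congr_fun hs₀ ⟨s, hs⟩
  change b (s₀ : W) s = b x s at h
  rw [map_mul, map_inv, MonoidHom.mul_apply, MonoidHom.inv_apply, h, inv_mul_cancel]

theorem AltPair.card_isSquare (hb : AltPair b) : IsSquare (Nat.card W) := by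
  induction hn : Nat.card W using Nat.strong_induction_on generalizing W with
  | _ n ih =>
    by_cases hW : Subsingleton W
    · rw [← hn, Nat.card_of_subsingleton (1 : W)]
      exact IsSquare.one
    rw [not_subsingleton_iff_nontrivial] at hW
    obtain ⟨⟨a, y⟩, hmax⟩ := Finite.exists_max fun p : W × W => orderOf (b p.1 p.2)
    let ζ := b a y
    have hmem : ∀ χ : W →* Kˣ, ζ ∈ χ.range → (∀ x, orderOf (χ x) ≤ orderOf ζ) →
        χ.range = Subgroup.zpowers ζ := by
      intro χ hζ hle
      obtain ⟨⟨g, hg⟩, hgen⟩ := IsCyclic.exists_generator (α := χ.range)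
      obtain ⟨x, rfl⟩ := hg
      refine (Subgroup.eq_of_le_of_card_ge (Subgroup.zpowers_le.2 hζ) ?_).symm
      rw [Nat.card_zpowers, ← orderOf_eq_card_of_forall_mem_zpowers hgen,
        ← Subgroup.orderOf_coe]
      exact hle x
    have hra := hmem (b a) ⟨y, rfl⟩ (fun x => hmax (a, x))
    have hry := hmem (b y) ⟨a⁻¹, by rw [map_inv, hb.symm_eq a y, inv_inv]⟩ (fun x => hmax (y, x))
    let φ : W →* Kˣ × Kˣ := (b a).prod (b y)
    have hrange : φ.range = (Subgroup.zpowers ζ).prod (Subgroup.zpowers ζ) := by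
      refine le_antisymm ?_ ?_
      · rintro _ ⟨x, rfl⟩
        exact ⟨hra ▸ ⟨x, rfl⟩, hry ▸ ⟨x, rfl⟩⟩
      · rintro ⟨_, _⟩ ⟨⟨i, rfl⟩, ⟨j, rfl⟩⟩
        refine ⟨y ^ i * a⁻¹ ^ j, Prod.ext ?_ ?_⟩
        · show b a (y ^ i * a⁻¹ ^ j) = ζ ^ i
          rw [map_mul, map_zpow, map_zpow, map_inv, hb.self, inv_one, one_zpow, mul_one]
        · show b y (y ^ i * a⁻¹ ^ j) = ζ ^ j
          rw [map_mul, map_zpow, map_zpow, map_inv, hb.self, one_zpow, one_mul, hb.symm_eq a y, inv_inv]
    have hdecomp : ∀ x, ∃ e : W, (∀ t ∈ φ.ker, b t e = 1) ∧ e⁻¹ * x ∈ φ.ker := by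
      intro x
      obtain ⟨⟨i, hi⟩, ⟨j, hj⟩⟩ := (hrange ▸ (⟨x, rfl⟩ : φ x ∈ φ.range) :
        φ x ∈ (Subgroup.zpowers ζ).prod (Subgroup.zpowers ζ))
      have he : φ (y ^ i * a⁻¹ ^ j) = φ x := by
        refine Prod.ext ?_ ?_
        · show b a (y ^ i * a⁻¹ ^ j) = b a x
          rw [map_mul, map_zpow, map_zpow, map_inv, hb.self, inv_one, one_zpow, mul_one]
          exact hi
        · show b y (y ^ i * a⁻¹ ^ j) = b y x
          rw [map_mul, map_zpow, map_zpow, map_inv, hb.self, one_zpow, one_mul, hb.symm_eq a y, inv_inv]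
          exact hj
      refine ⟨y ^ i * a⁻¹ ^ j, fun t ht => ?_, MonoidHom.mem_ker.2 (by rw [map_mul, map_inv, he, inv_mul_cancel])⟩
      have ht' : φ t = 1 := ht
      have ha : b t a = 1 := hb.eq_one_symm (congrArg Prod.fst ht')
      have hy : b t y = 1 := hb.eq_one_symm (congrArg Prod.snd ht')
      rw [map_mul, map_zpow, map_zpow, map_inv, ha, hy, inv_one, one_zpow, one_zpow, one_mul]
    have hdis : φ.ker ⊓ perp b φ.ker = ⊥ := by
      refine (Subgroup.eq_bot_iff_forall _).2 fun t ⟨ht, htp⟩ => hb.nondeg t fun x => ?_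
      obtain ⟨e, he, hker⟩ := hdecomp x
      rw [← mul_inv_cancel_left e x, map_mul, he t ht, htp _ hker, one_mul]
    have hcard : Nat.card φ.ker * (orderOf ζ * orderOf ζ) = n := by
      rw [← hn, ← Subgroup.card_mul_index φ.ker, Subgroup.index_ker, hrange,
        Nat.card_congr (Subgroup.prodEquiv _ _).toEquiv, Nat.card_prod, Nat.card_zpowers]
    have hζ : 1 < orderOf ζ := by
      obtain ⟨x, hx⟩ := exists_ne (1 : W)
      by_contra hle
      refine hx (hb.nondeg x fun z => orderOf_eq_one_iff.1 ?_)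
      exact le_antisymm ((hmax (x, z)).trans (not_lt.1 hle)) (orderOf_pos _)
    have hlt : Nat.card φ.ker < n := by
      rw [← hcard]
      exact lt_mul_of_one_lt_right Nat.card_pos (Nat.one_lt_mul_iff.2
        ⟨zero_lt_one.trans hζ, zero_lt_one.trans hζ, Or.inl hζ⟩)
    rw [← hcard]
    exact (ih _ hlt (hb.restrict hdis) rfl).mul (IsSquare.mul_self _)

/-- The fixed group of a coprime automorphism preserving the pairing has square order. -/
theorem AltPair.fixed_isSquare (hb : AltPair b) (f : MulAut W) (n : ℕ) (hn : f ^ n = 1)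
    (hco : n.Coprime (Nat.card W)) (hf : ∀ x y, b (f x) (f y) = b x y) :
    IsSquare (Nat.card {x : W // f x = x}) := by
  let I : W →* W := f.toMonoidHom / MonoidHom.id W
  have hI : ∀ x, I x = f x / x := fun x => rfl
  have hker : ∀ x, x ∈ I.ker ↔ f x = x := fun x => by rw [MonoidHom.mem_ker, hI, div_eq_one]
  have hdisj : Disjoint I.ker I.range := by
    refine Subgroup.disjoint_def.2 fun {x} hx hx' => ?_
    obtain ⟨z, hz⟩ := hx'
    have hfx := (hker x).1 hx
    have hpow : ∀ k : ℕ, (f ^ k) z = x ^ k * z := by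
      intro k
      induction k with
      | zero => simp
      | succ k ih =>
        rw [pow_succ', MulAut.mul_apply, ih, map_mul, map_pow, hfx, pow_succ, ← hz, hI, mul_assoc,
          div_mul_cancel]
    have h1 : x ^ n = 1 := by
      have := hpow n
      rw [hn, MulAut.one_apply] at this
      exact mul_eq_right.1 this.symm
    exact orderOf_eq_one_iff.1 (Nat.eq_one_of_dvd_coprimes hco
      (orderOf_dvd_of_pow_eq_one h1) (orderOf_dvd_natCard x))
  have htop : I.ker ⊔ I.range = ⊤ :=
    (Subgroup.isComplement'_of_card_mul_and_disjoint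
      (by rw [← Subgroup.index_ker, Subgroup.card_mul_index]) hdisj).sup_eq_top
  have hdis : I.ker ⊓ perp b I.ker = ⊥ := by
    refine (Subgroup.eq_bot_iff_forall _).2 fun c ⟨hc, hcp⟩ => hb.nondeg c fun x => ?_
    obtain ⟨k, hk, i, ⟨z, rfl⟩, rfl⟩ := Subgroup.mem_sup.1 (htop ▸ Subgroup.mem_top x)
    have hz : b c (f z) = b c z := by rw [← hf c z, (hker c).1 hc]
    rw [map_mul, hcp k hk, one_mul, hI, map_div, hz, div_self']
  rw [show Nat.card {x : W // f x = x} = Nat.card I.ker from
    Nat.card_congr (Equiv.subtypeEquivRight fun x => (hker x).symm)]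
  exact (hb.restrict hdis).card_isSquare

/-- Automorphism groups of small modules of this kind: the possible odd orders. -/
theorem AltPair.card_dvd_of_small (hb : AltPair b) (A H : Subgroup (MulAut W)) (hHA : H ≤ A)
    (hnorm : ∀ a ∈ A, ∀ h ∈ H, a * h * a⁻¹ ∈ H)
    (hH : ∀ f ∈ H, ∀ x y, b (f x) (f y) = b x y) (hodd : Odd (Nat.card H))
    (hperp : ∀ S : Subgroup W, (∀ a ∈ A, ∀ x ∈ S, a x ∈ S) →
      (∀ a ∈ A, ∀ x ∈ perp b S, a x ∈ perp b S) ∧ S ⊓ perp b S = ⊥)
    {r m e c : ℕ} (hr : r.Prime) (hW : Nat.card W = r ^ m)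
    (hsq : ∀ j, j * j ∣ r ^ m → j = 1 ∨ j * j = r ^ m ∨
      ∀ s, s.Prime → s ≠ 2 → s ∣ r ^ m - j * j → s = r)
    (he : r ^ m - 1 = 2 ^ e * c) (hc : ∀ d, d ∣ c → d % r = 1 → d = 1) : Nat.card H ∣ c := by
  classical
  haveI := Fact.mk hr
  have hS : ∀ s, s.Prime → s ≠ r → ∀ P : Sylow s H, Nat.card P ∣ 2 ^ e * c := by
    intro s hs hsr P
    haveI := Fact.mk hs
    by_cases hs2 : s = 2
    · subst hs2
      have : Nat.card P = 1 := by
        obtain ⟨k, hk⟩ := IsPGroup.iff_card.1 P.isPGroup'
        rw [hk]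
        cases k with
        | zero => rfl
        | succ k => exact absurd (hodd.of_dvd_nat (Subgroup.card_subgroup_dvd_card (P : Subgroup H))) (by
            rw [hk, pow_succ]; simp [Nat.odd_mul])
      rw [this]
      exact one_dvd _
    let φ : (P : Subgroup H) →* MulAut W := H.subtype.comp (P : Subgroup H).subtype
    let P' : Subgroup (MulAut W) := φ.range
    have hφ : Function.Injective φ := Subtype.val_injective.comp Subtype.val_injective
    have hfree : ∀ p : P, φ p ≠ 1 → ∀ x : W, φ p x = x → x = 1 := by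
      intro p hp x hx
      obtain ⟨k, hk⟩ := P.isPGroup' p
      have hfk : φ p ^ s ^ k = 1 := by rw [← map_pow, hk, map_one]
      have hco : (s ^ k).Coprime (Nat.card W) := by
        rw [hW]
        exact Nat.Coprime.pow _ _ ((Nat.coprime_primes hs hr).2 hsr)
      obtain ⟨j, hj⟩ := hb.fixed_isSquare (φ p) _ hfk hco (hH _ (p : H).2)
      have hz : IsPGroup s (Subgroup.zpowers (φ p)) := by
        rintro ⟨_, i, rfl⟩
        refine ⟨k, Subtype.ext ?_⟩
        show (φ p ^ i) ^ s ^ k = 1
        rw [← zpow_natCast, ← zpow_mul, mul_comm, zpow_mul, zpow_natCast, hfk, one_zpow]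
      have hfix : Nat.card (MulAction.fixedPoints (Subgroup.zpowers (φ p)) W) = j * j := by
        rw [← hj]
        refine Nat.card_congr (Equiv.subtypeEquivRight fun z => ⟨fun h => h ⟨_, Subgroup.mem_zpowers _⟩, ?_⟩)
        intro h g
        have : φ p ∈ MulAction.stabilizer (MulAut W) z := h
        exact (Subgroup.zpowers_le.2 this) g.2
      have hmod := hz.card_modEq_card_fixedPoints W
      rw [hfix, hW] at hmod
      have hdvd : j * j ∣ r ^ m := by
        rw [← hj, ← hW]
        let C : Subgroup W := (φ p).toMonoidHom.eqLocus (MonoidHom.id W)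
        exact Subgroup.card_subgroup_dvd_card C
      rcases hsq j hdvd with h1 | h1 | h1
      · rw [h1, one_mul, Nat.card_eq_one_iff_unique] at hj
        exact congrArg Subtype.val (hj.1.elim ⟨x, hx⟩ ⟨1, map_one _⟩)
      · refine absurd (MulEquiv.ext fun z => ?_) hp
        have : Function.Surjective (Subtype.val : {x : W // φ p x = x} → W) :=
          ((Nat.bijective_iff_injective_and_card _).2 ⟨Subtype.val_injective, by rw [hj, h1, hW]⟩).2
        obtain ⟨⟨z, hz⟩, rfl⟩ := this z
        exact hz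
      · exact absurd (h1 s hs hs2 ((Nat.modEq_iff_dvd' (Nat.le_of_dvd (pow_pos hr.pos m) hdvd)).1 hmod.symm)) hsr
    let X : SubMulAction P' W := ⟨{x | x ≠ 1}, fun g x hx h => hx ((g : MulAut W).injective (h.trans (map_one _).symm))⟩
    have hst : ∀ x : X, MulAction.stabilizer P' x = ⊥ := by
      intro x
      refine (Subgroup.eq_bot_iff_forall _).2 ?_
      rintro ⟨_, p, rfl⟩ hp
      refine Subtype.ext (Classical.byContradiction fun hne => x.2 (hfree p hne x ?_))
      exact congrArg Subtype.val hp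
    have hcX : Nat.card X = r ^ m - 1 := by
      rw [← hW]
      show Nat.card ({(1 : W)}ᶜ : Set W) = _
      rw [Nat.card_coe_set_eq, Set.ncard_compl, Set.ncard_singleton]
    rw [← he, ← hcX, Nat.card_congr (MulAction.selfEquivOrbitsQuotientProd hst), Nat.card_prod,
      ← Nat.card_congr (MonoidHom.ofInjective hφ).toEquiv]
    exact dvd_mul_left _ _
  obtain ⟨P⟩ : Nonempty (Sylow r H) := inferInstance
  have hidx : (P : Subgroup H).index ∣ c := by
    have h1 : (P : Subgroup H).index ∣ 2 ^ e * c := by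
      refine (Nat.dvd_iff_prime_pow_dvd_dvd _ _).2 fun s k hs hk => ?_
      by_cases hsr : s = r
      · subst hsr
        cases k with
        | zero => simp
        | succ k => exact absurd ((dvd_pow_self s k.succ_ne_zero).trans hk) P.not_dvd_index
      · haveI := Fact.mk hs
        obtain ⟨Q⟩ : Nonempty (Sylow s H) := inferInstance
        refine dvd_trans ?_ (hS s hs hsr Q)
        rw [Q.card_eq_multiplicity]
        refine pow_dvd_pow s ((hs.pow_dvd_iff_le_factorization Nat.card_pos.ne').1 ?_)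
        exact hk.trans (Subgroup.index_dvd_card _)
    have h2 : (P : Subgroup H).index.Coprime (2 ^ e) :=
      Nat.Coprime.pow_right _ (Nat.coprime_two_right.2 (hodd.of_dvd_nat (Subgroup.index_dvd_card _)))
    exact h2.dvd_of_dvd_mul_left h1
  have hone : Nat.card (Sylow r H) = 1 := hc _ (P.card_dvd_index.trans hidx) (by
    have := card_sylow_modEq_one r H
    rwa [Nat.ModEq, Nat.one_mod_eq_one.2 hr.ne_one] at this)
  haveI : Subsingleton (Sylow r H) := (Nat.card_eq_one_iff_unique.1 hone).1
  haveI hPn : (P : Subgroup H).Normal := Sylow.normal_of_subsingleton P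
  haveI hPc : (P : Subgroup H).Characteristic := P.characteristic_of_normal hPn
  have hPconj : ∀ a ∈ A, ∀ p ∈ (P : Subgroup H), ∃ q ∈ (P : Subgroup H),
      (q : MulAut W) = a * (p : MulAut W) * a⁻¹ := by
    intro a ha p hp
    let φ : H ≃* H :=
      { toFun := fun h => ⟨a * h * a⁻¹, hnorm a ha h h.2⟩
        invFun := fun h => ⟨a⁻¹ * h * a, by simpa using hnorm a⁻¹ (A.inv_mem ha) h h.2⟩
        left_inv := fun h => Subtype.ext (by simp [mul_assoc])
        right_inv := fun h => Subtype.ext (by simp [mul_assoc])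
        map_mul' := fun x y => Subtype.ext (by simp [mul_assoc]) }
    exact ⟨φ p, by
      rw [← hPc.fixed φ] at hp
      exact hp, rfl⟩
  let C : Subgroup W :=
    { carrier := {x | ∀ p ∈ (P : Subgroup H), (p : MulAut W) x = x}
      one_mem' := fun p _ => map_one _
      mul_mem' := fun hx hy p hp => by rw [map_mul, hx p hp, hy p hp]
      inv_mem' := fun hx p hp => by rw [map_inv, hx p hp] }
  have hCinv : ∀ a ∈ A, ∀ x ∈ C, a x ∈ C := by
    intro a ha x hx p hp
    obtain ⟨q, hq, hqe⟩ := hPconj a⁻¹ (A.inv_mem ha) p hp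
    have h := hx q hq
    rw [hqe, inv_inv, MulAut.mul_apply, MulAut.mul_apply] at h
    have := congrArg a h
    rwa [MulAut.apply_inv_self] at this
  obtain ⟨hinv, hdis⟩ := hperp C hCinv
  have hC : C = ⊤ := by
    by_contra hne
    have hne' : perp b C ≠ ⊥ := fun h => hne (by
      have := hb.sup_perp hdis
      rwa [h, sup_bot_eq] at this)
    let P' : Subgroup (MulAut W) := (P : Subgroup H).map H.subtype
    let D : SubMulAction P' W := ⟨(perp b C : Set W), by
      rintro ⟨_, p, hp, rfl⟩ x hx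
      exact hinv _ (hHA p.2) x hx⟩
    have hP' : IsPGroup r P' := P.isPGroup'.map _
    have hdvd : r ∣ Nat.card D := by
      have hd : Nat.card D ∣ r ^ m := hW ▸ Subgroup.card_subgroup_dvd_card (perp b C)
      obtain ⟨k, -, hk⟩ := (Nat.dvd_prime_pow hr).1 hd
      rw [hk]
      refine dvd_pow_self r fun h0 => hne' (Subgroup.eq_bot_of_card_eq _ ?_)
      rw [h0, pow_zero] at hk
      exact hk
    have h1 : (⟨1, (perp b C).one_mem⟩ : D) ∈ MulAction.fixedPoints P' D := fun g =>
      Subtype.ext (map_one (g : MulAut W))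
    obtain ⟨d, hd, hd1⟩ := hP'.exists_fixed_point_of_prime_dvd_card_of_fixed_point D hdvd h1
    refine hd1 (Subtype.ext ?_).symm
    have : (d : W) ∈ C ⊓ perp b C :=
      ⟨fun p hp => congrArg Subtype.val (hd ⟨_, p, hp, rfl⟩), d.2⟩
    rwa [hdis, Subgroup.mem_bot] at this
  have hPbot : (P : Subgroup H) = ⊥ := by
    refine (Subgroup.eq_bot_iff_forall _).2 fun p hp => Subtype.ext (MulEquiv.ext fun x => ?_)
    exact (show x ∈ C from hC ▸ Subgroup.mem_top x) p hp
  rwa [hPbot, Subgroup.index_bot] at hidx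

end Cfsg.Agent.H52.RegPair
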