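import Cfsg.Agent.H52.RegPair.Subset

/-! Completely reducible odd order modules: reduction of the existence of a regular pair of vectors
to irreducible and then to primitive modules. -/

set_option autoImplicit false
set_option linter.unusedSectionVars false
set_option linter.style.haveILetI false

namespace Cfsg.Agent.H52.RegPair

open MulAction
open scoped Pointwise

universe u

variable (G : Type u) [Group G] (V : Type u) [AddCommGroup V] [DistribMulAction G V]

/-- Only elements acting trivially fix both vectors. -/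
def RegVec (v w : V) : Prop := ∀ g : G, g • v = v → g • w = w → ∀ x : V, g • x = x

/-- Invariance of a subgroup. -/
def Inv (U : AddSubgroup V) : Prop := ∀ g : G, ∀ x ∈ U, g • x ∈ U

/-- Complete reducibility. -/
def CR : Prop := ∀ U : AddSubgroup V, Inv G V U →
  ∃ W : AddSubgroup V, Inv G V W ∧ U ⊓ W = ⊥ ∧ U ⊔ W = ⊤

/-- Irreducibility. -/
def Irr : Prop := ∀ U : AddSubgroup V, Inv G V U → U = ⊥ ∨ U = ⊤

/-- Independence of a finite family of subgroups. -/
def Indep (𝔇 : Set (AddSubgroup V)) : Prop :=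
  ∀ (s : Finset (AddSubgroup V)) (f : AddSubgroup V → V), ↑s ⊆ 𝔇 → (∀ D ∈ s, f D ∈ D) →
    ∑ D ∈ s, f D = 0 → ∀ D ∈ s, f D = 0

/-- A system of imprimitivity. -/
def Imprim : Prop := ∃ 𝔇 : Set (AddSubgroup V), (∀ (g : G) D, D ∈ 𝔇 → g • D ∈ 𝔇) ∧ 𝔇.Nontrivial ∧
  (∀ D ∈ 𝔇, D ≠ ⊥) ∧ Indep V 𝔇

/-- The inductive hypothesis. -/
def BelowPair : Prop :=
  ∀ (H : Type u) [Group H] [Finite H] (X : Type u) [AddCommGroup X] [Finite X] [DistribMulAction H X],
    Nat.card H + Nat.card X < Nat.card G + Nat.card V → Odd (Nat.card H) → CR H X →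
      ∃ v w : X, RegVec H X v w

variable {G V}

/-- The action on an invariant subgroup. -/
@[instance_reducible]
def subAction {U : AddSubgroup V} (hU : Inv G V U) : DistribMulAction G U where
  smul g x := ⟨g • (x : V), hU g x x.2⟩
  one_smul x := Subtype.ext (one_smul G (x : V))
  mul_smul a b x := Subtype.ext (mul_smul a b (x : V))
  smul_zero g := Subtype.ext (smul_zero g)
  smul_add g x y := Subtype.ext (smul_add g (x : V) (y : V))

theorem cr_sub (hV : CR G V) {U : AddSubgroup V} (hU : Inv G V U) :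
    letI := subAction hU
    CR G U := by
  intro X hX
  have hX' : Inv G V (X.map U.subtype) := by
    rintro g _ ⟨x, hx, rfl⟩
    exact ⟨_, hX g x hx, rfl⟩
  obtain ⟨C, hC, hdis, hsup⟩ := hV _ hX'
  refine ⟨C.comap U.subtype, fun g x hx => hC g x hx, ?_, ?_⟩
  · refine (AddSubgroup.eq_bot_iff_forall _).2 fun x hx => ?_
    have : (x : V) ∈ X.map U.subtype ⊓ C := ⟨⟨x, hx.1, rfl⟩, hx.2⟩
    rw [hdis, AddSubgroup.mem_bot] at this
    exact Subtype.ext this
  · refine eq_top_iff.2 fun x _ => ?_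
    have hx : (x : V) ∈ X.map U.subtype ⊔ C := hsup ▸ AddSubgroup.mem_top _
    obtain ⟨_, ⟨y, hy, rfl⟩, c, hc, he⟩ := AddSubgroup.mem_sup.1 hx
    have hcU : c ∈ U := by
      rw [show c = (x : V) - y from eq_sub_of_add_eq' he]
      exact U.sub_mem x.2 y.2
    exact AddSubgroup.mem_sup.2 ⟨y, hy, ⟨c, hcU⟩, hc, Subtype.ext he⟩

variable [Finite G] [Finite V]

theorem regVec_of_reducible (hodd : Odd (Nat.card G)) (hV : CR G V) (ih : BelowPair G V)
    {U : AddSubgroup V} (hU : Inv G V U) (h0 : U ≠ ⊥) (h1 : U ≠ ⊤) : ∃ v w : V, RegVec G V v w := by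
  obtain ⟨W, hW, hdis, hsup⟩ := hV U hU
  have hW1 : W ≠ ⊤ := fun h => h0 (by rw [h, inf_top_eq] at hdis; exact hdis)
  have hlt : ∀ S : AddSubgroup V, S ≠ ⊤ → Nat.card S < Nat.card V := fun S hS => by
    obtain ⟨x, hx⟩ : ∃ x, x ∉ S := by
      by_contra hno
      push Not at hno
      exact hS (eq_top_iff.2 fun x _ => hno x)
    exact Finite.card_subtype_lt (x := x) hx
  letI := subAction hU
  obtain ⟨a, b, hab⟩ := ih G U (by have := hlt U h1; omega) hodd (cr_sub hV hU)
  letI := subAction hW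
  obtain ⟨c, d, hcd⟩ := ih G W (by have := hlt W hW1; omega) hodd (cr_sub hV hW)
  refine ⟨a + c, b + d, fun g hv hw x => ?_⟩
  have key : ∀ (s : U) (t : W), g • ((s : V) + t) = s + t → g • s = s ∧ g • t = t := by
    intro s t h
    rw [smul_add] at h
    have he : g • (s : V) - s = (t : V) - g • (t : V) := by
      rw [sub_eq_sub_iff_add_eq_add, h, add_comm]
    have hm : g • (s : V) - s ∈ U ⊓ W :=
      ⟨U.sub_mem (hU g _ s.2) s.2, he ▸ W.sub_mem t.2 (hW g _ t.2)⟩
    rw [hdis, AddSubgroup.mem_bot] at hm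
    refine ⟨Subtype.ext (sub_eq_zero.1 hm), Subtype.ext ?_⟩
    rw [hm] at he
    exact (sub_eq_zero.1 he.symm).symm
  obtain ⟨h1, h2⟩ := key a c hv
  obtain ⟨h3, h4⟩ := key b d hw
  have hx : x ∈ U ⊔ W := hsup ▸ AddSubgroup.mem_top x
  obtain ⟨s, hs, t, ht, rfl⟩ := AddSubgroup.mem_sup.1 hx
  rw [smul_add, show g • s = s from congrArg Subtype.val (hab g h1 h3 ⟨s, hs⟩),
    show g • t = t from congrArg Subtype.val (hcd g h2 h4 ⟨t, ht⟩)]

/-- Two regular pairs in different orbits. -/
theorem exists_two_pairs {H : Type u} [Group H] [Finite H] {X : Type u} [AddCommGroup X]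
    [DistribMulAction H X] [Nontrivial X] (hodd : Odd (Nat.card H)) (h : ∃ v w : X, RegVec H X v w) :
    ∃ P Q : X × X, RegVec H X P.1 P.2 ∧ RegVec H X Q.1 Q.2 ∧
      ∀ g : H, ¬ (g • P.1 = Q.1 ∧ g • P.2 = Q.2) := by
  obtain ⟨v, w, hvw⟩ := h
  by_cases hz : v = 0 ∧ w = 0
  · obtain ⟨e, he⟩ := exists_ne (0 : X)
    have hall : ∀ (g : H) (x : X), g • x = x := fun g x =>
      hvw g (by rw [hz.1, smul_zero]) (by rw [hz.2, smul_zero]) x
    exact ⟨(e, 0), (0, 0), fun g _ _ => hall g, fun g _ _ => hall g, fun g hg => he (by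
      rw [← hall g e]; exact hg.1)⟩
  rcases eq_or_ne v w with rfl | hne
  · have hv0 : v ≠ 0 := fun h => hz ⟨h, h⟩
    refine ⟨(v, 0), (0, v), fun g h1 _ => hvw g h1 h1, fun g _ h2 => hvw g h2 h2, fun g hg => hv0 ?_⟩
    exact smul_eq_zero_iff_eq g |>.1 hg.1
  · refine ⟨(v, w), (w, v), hvw, fun g h1 h2 => hvw g h2 h1, ?_⟩
    rintro g ⟨h1, h2⟩
    obtain ⟨k, hk⟩ := exists_pow_sq hodd g
    have hfix : ∀ x : X, g ^ 2 • x = x :=
      hvw _ (by rw [pow_two, mul_smul]; exact (congrArg (g • ·) h1).trans h2)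
        (by rw [pow_two, mul_smul]; exact (congrArg (g • ·) h2).trans h1)
    have : g • v = v := by
      rw [← hk]
      exact RegSubset.smul_ne_compl.smul_iterate_fixed (g ^ 2) v k (hfix v)
    exact hne (this.symm.trans h1)

theorem regVec_of_imprim (hsol : OddSolvable.{u}) (hodd : Odd (Nat.card G)) (hirr : Irr G V)
    (ih : BelowPair G V) (him : Imprim G V) : ∃ v w : V, RegVec G V v w := by
  classical
  obtain ⟨𝔇, hinv, hnt, hne, hind⟩ := him
  let Ds : SubMulAction G (AddSubgroup V) := ⟨𝔇, fun g D hD => hinv g D hD⟩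
  haveI : Finite (AddSubgroup V) := Finite.of_injective (fun D : AddSubgroup V => (D : Set V)) SetLike.coe_injective
  letI := Fintype.ofFinite Ds
  have hindep : ∀ f : Ds → V, (∀ D : Ds, f D ∈ (D : AddSubgroup V)) → ∑ D, f D = 0 → ∀ D, f D = 0 := by
    intro f hf hsum D
    let s : Finset (AddSubgroup V) := Finset.univ.map (Function.Embedding.subtype _ : Ds ↪ AddSubgroup V)
    let F : AddSubgroup V → V := fun S => if h : S ∈ 𝔇 then f ⟨S, h⟩ else 0
    have hF : ∀ S : Ds, F (S : AddSubgroup V) = f S := fun S =>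
      (dif_pos (show (S : AddSubgroup V) ∈ 𝔇 from S.2))
    have h := hind s F (fun S hS => by
        obtain ⟨S', -, rfl⟩ := Finset.mem_map.1 hS; exact S'.2)
      (fun S hS => by obtain ⟨S', -, rfl⟩ := Finset.mem_map.1 hS; show F S' ∈ _; rw [hF]; exact hf S')
      (by rw [Finset.sum_map]; exact (Finset.sum_congr rfl fun S _ => hF S).trans hsum)
      (D : AddSubgroup V) (Finset.mem_map.2 ⟨D, Finset.mem_univ _, rfl⟩)
    rwa [hF] at h
  obtain ⟨D₀, hD₀, D₁, hD₁, hD01⟩ := hnt
  let B : Ds := ⟨D₀, hD₀⟩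
  have htr : ∀ C : Ds, ∃ g : G, g • B = C := by
    intro C
    by_contra hno
    push Not at hno
    let S : AddSubgroup V := ⨆ D : {D : Ds // ∃ g : G, g • B = D}, ((D : Ds) : AddSubgroup V)
    have hS : Inv G V S := by
      intro g x hx
      refine AddSubgroup.iSup_induction _ (C := fun x => g • x ∈ S) hx (fun D y hy => ?_)
        (by rw [smul_zero]; exact S.zero_mem) (fun y z hy hz => by rw [smul_add]; exact S.add_mem hy hz)
      obtain ⟨k, hk⟩ := D.2
      exact AddSubgroup.mem_iSup_of_mem ⟨g • (D : Ds), g * k, by rw [mul_smul, hk]⟩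
        (AddSubgroup.smul_mem_pointwise_smul y g _ hy)
    have hSne : S ≠ ⊥ := fun h => hne D₀ hD₀ (eq_bot_iff.2 (h ▸
      le_iSup (fun D : {D : Ds // ∃ g : G, g • B = D} => ((D : Ds) : AddSubgroup V)) ⟨B, 1, one_smul _ _⟩))
    have htop := (hirr S hS).resolve_left hSne
    obtain ⟨x, hx, hx0⟩ := (AddSubgroup.bot_or_exists_ne_zero (C : AddSubgroup V)).resolve_left (hne _ C.2)
    have hxS : x ∈ S := htop ▸ AddSubgroup.mem_top x
    obtain ⟨f, hf, hfC, hfx⟩ : ∃ f : Ds → V, (∀ D : Ds, f D ∈ (D : AddSubgroup V)) ∧ f C = 0 ∧ ∑ D, f D = x := by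
      refine AddSubgroup.iSup_induction _ (C := fun x => ∃ f : Ds → V,
        (∀ D : Ds, f D ∈ (D : AddSubgroup V)) ∧ f C = 0 ∧ ∑ D, f D = x) hxS ?_ ?_ ?_
      · intro D y hy
        refine ⟨Pi.single (D : Ds) y, fun E => ?_, ?_, Finset.sum_pi_single' _ _ _ |>.trans (by simp)⟩
        · by_cases h : E = (D : Ds)
          · subst h; rw [Pi.single_eq_same]; exact hy
          · rw [Pi.single_eq_of_ne h]; exact AddSubgroup.zero_mem _
        · obtain ⟨k, hk⟩ := D.2
          exact Pi.single_eq_of_ne (fun h => hno k (hk.trans h.symm)) _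
      · exact ⟨0, fun D => AddSubgroup.zero_mem _, rfl, by simp⟩
      · rintro y z ⟨f, hf, hf0, hfy⟩ ⟨f', hf', hf0', hfz⟩
        exact ⟨f + f', fun D => AddSubgroup.add_mem _ (hf D) (hf' D), by simp [hf0, hf0'],
          by simp [Finset.sum_add_distrib, hfy, hfz]⟩
    have := hindep (f - Pi.single C x) (fun D => by
      rw [Pi.sub_apply]
      refine AddSubgroup.sub_mem _ (hf D) ?_
      by_cases h : D = C
      · subst h; rw [Pi.single_eq_same]; exact hx
      · rw [Pi.single_eq_of_ne h]; exact AddSubgroup.zero_mem _) (by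
      simp [Finset.sum_sub_distrib, hfx, Finset.sum_pi_single']) C
    rw [Pi.sub_apply, hfC, Pi.single_eq_same, zero_sub, neg_eq_zero] at this
    exact hx0 this
  choose t ht using htr
  have ht' : ∀ C : Ds, t C • D₀ = (C : AddSubgroup V) := fun C => congrArg Subtype.val (ht C)
  let H := stabilizer G B
  have hHD : Inv H V D₀ := fun h x hx => by
    rw [Subgroup.smul_def]
    have : (h : G) • D₀ = D₀ := congrArg Subtype.val h.2
    exact this ▸ AddSubgroup.smul_mem_pointwise_smul x (h : G) D₀ hx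
  letI := subAction hHD
  have hpiece : ∀ X : AddSubgroup D₀, Inv H D₀ X → X = ⊥ ∨ X = ⊤ := by
    intro X hX
    by_cases hX0 : X = ⊥
    · exact Or.inl hX0
    refine Or.inr (eq_top_iff.2 fun d _ => ?_)
    let T : Ds → AddSubgroup V := fun C => t C • (X.map D₀.subtype)
    have hTle : ∀ C, T C ≤ (C : AddSubgroup V) := fun C => by
      calc T C ≤ t C • D₀ := AddSubgroup.pointwise_smul_le_pointwise_smul_iff.2
            (AddSubgroup.map_subtype_le X)
        _ = (C : AddSubgroup V) := congrArg Subtype.val (ht C)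
    have hTinv : ∀ (g : G) C, g • T C ≤ T (g • C) := by
      intro g C
      have hst : (t (g • C))⁻¹ * g * t C ∈ H := by
        rw [mem_stabilizer_iff, mul_smul, mul_smul, ht C, inv_smul_eq_iff, ht (g • C)]
      rintro _ ⟨_, ⟨_, ⟨y, hy, rfl⟩, rfl⟩, rfl⟩
      refine ⟨((t (g • C))⁻¹ * g * t C) • (y : V), ⟨_, hX ⟨_, hst⟩ y hy, rfl⟩, ?_⟩
      show t (g • C) • (((t (g • C))⁻¹ * g * t C) • (y : V)) = g • t C • (y : V)
      rw [← mul_smul, ← mul_smul]
      congr 1
      group
    let S : AddSubgroup V := ⨆ C, T C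
    have hS : Inv G V S := by
      intro g x hx
      refine AddSubgroup.iSup_induction _ (C := fun x => g • x ∈ S) hx (fun C y hy => ?_)
        (by rw [smul_zero]; exact S.zero_mem) (fun y z hy hz => by rw [smul_add]; exact S.add_mem hy hz)
      exact AddSubgroup.mem_iSup_of_mem (g • C) (hTinv g C (AddSubgroup.smul_mem_pointwise_smul y g _ hy))
    have hSne : S ≠ ⊥ := by
      intro h
      obtain ⟨y, hy, hy0⟩ := (AddSubgroup.bot_or_exists_ne_zero X).resolve_left hX0
      have : t B • (y : V) ∈ S := AddSubgroup.mem_iSup_of_mem B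
        (AddSubgroup.smul_mem_pointwise_smul _ _ _ ⟨y, hy, rfl⟩)
      rw [h, AddSubgroup.mem_bot, smul_eq_zero_iff_eq] at this
      exact hy0 (Subtype.ext this)
    have htop := (hirr S hS).resolve_left hSne
    have hdS : t B • (d : V) ∈ S := htop ▸ AddSubgroup.mem_top _
    obtain ⟨f, hf, hfx⟩ : ∃ f : Ds → V, (∀ C, f C ∈ T C) ∧ ∑ C, f C = t B • (d : V) := by
      refine AddSubgroup.iSup_induction _ (C := fun x => ∃ f : Ds → V, (∀ C, f C ∈ T C) ∧ ∑ C, f C = x)
        hdS ?_ ?_ ?_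
      · intro D y hy
        refine ⟨Pi.single D y, fun E => ?_, by simp [Finset.sum_pi_single']⟩
        by_cases h : E = D
        · subst h; rw [Pi.single_eq_same]; exact hy
        · rw [Pi.single_eq_of_ne h]; exact AddSubgroup.zero_mem _
      · exact ⟨0, fun D => AddSubgroup.zero_mem _, by simp⟩
      · rintro y z ⟨f, hf, hfy⟩ ⟨f', hf', hfz⟩
        exact ⟨f + f', fun D => AddSubgroup.add_mem _ (hf D) (hf' D),
          by simp [Finset.sum_add_distrib, hfy, hfz]⟩
    have hdB : t B • (d : V) ∈ (B : AddSubgroup V) := by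
      rw [← ht' B]
      exact AddSubgroup.smul_mem_pointwise_smul _ _ _ d.2
    have h := hindep (f - Pi.single B (t B • (d : V))) (fun C => by
      rw [Pi.sub_apply]
      refine AddSubgroup.sub_mem _ (hTle C (hf C)) ?_
      by_cases h : C = B
      · subst h; rw [Pi.single_eq_same]; exact hdB
      · rw [Pi.single_eq_of_ne h]; exact AddSubgroup.zero_mem _) (by
      simp [Finset.sum_sub_distrib, hfx, Finset.sum_pi_single']) B
    rw [Pi.sub_apply, Pi.single_eq_same, sub_eq_zero] at h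
    have hm := hf B
    rw [h, AddSubgroup.smul_mem_pointwise_smul_iff] at hm
    obtain ⟨y, hy, hyd⟩ := hm
    rwa [show y = d from Subtype.ext hyd] at hy
  have hlt : Nat.card D₀ < Nat.card V := by
    obtain ⟨y, hy, hy0⟩ := (AddSubgroup.bot_or_exists_ne_zero D₁).resolve_left (hne D₁ hD₁)
    refine Finite.card_subtype_lt (x := y) fun hy' => hy0 ?_
    let C : Ds := ⟨D₁, hD₁⟩
    have hCB : C ≠ B := fun h => hD01 (congrArg Subtype.val h).symm
    have h := hindep (Pi.single C y - Pi.single B y) (fun D => by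
      rw [Pi.sub_apply]
      refine AddSubgroup.sub_mem _ ?_ ?_
      · by_cases h : D = C
        · subst h; rw [Pi.single_eq_same]; exact hy
        · rw [Pi.single_eq_of_ne h]; exact AddSubgroup.zero_mem _
      · by_cases h : D = B
        · subst h; rw [Pi.single_eq_same]; exact hy'
        · rw [Pi.single_eq_of_ne h]; exact AddSubgroup.zero_mem _)
      (by simp [Finset.sum_sub_distrib, Finset.sum_pi_single']) C
    rwa [Pi.sub_apply, Pi.single_eq_same, Pi.single_eq_of_ne hCB, sub_zero] at h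
  haveI : Nontrivial D₀ := (AddSubgroup.nontrivial_iff_ne_bot _).2 (hne _ hD₀)
  obtain ⟨P, Q, hP, hQ, hPQ⟩ := exists_two_pairs (H := H) (X := D₀)
    (hodd.of_dvd_nat (Subgroup.card_subgroup_dvd_card _))
    (ih H D₀ (by have := Subgroup.card_le_card_group H; omega)
      (hodd.of_dvd_nat (Subgroup.card_subgroup_dvd_card _)) (fun X hX => by
        rcases hpiece X hX with h | h
        · exact ⟨⊤, fun _ _ _ => AddSubgroup.mem_top _, by rw [h, bot_inf_eq], by rw [h, bot_sup_eq]⟩
        · exact ⟨⊥, fun g x hx => by rw [AddSubgroup.mem_bot] at hx ⊢; rw [hx, smul_zero],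
            by rw [inf_bot_eq], by rw [h, top_sup_eq]⟩))
  obtain ⟨T, hT⟩ := exists_regSubset hsol G Ds hodd
  let col : Ds → D₀ × D₀ := fun C => if C ∈ T then P else Q
  have hcomp : ∀ (c : Ds → D₀) (g : G), g • (∑ C, t C • (c C : V)) = ∑ C, t C • (c C : V) →
      ∀ C, g • t C • (c C : V) = t (g • C) • (c (g • C) : V) := by
    intro c g hg C
    let u : Ds → V := fun C => t C • (c C : V)
    have hu : ∀ D : Ds, u D ∈ (D : AddSubgroup V) := fun D => by
      rw [← ht' D]
      exact AddSubgroup.smul_mem_pointwise_smul _ _ _ (c D).2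
    have hsum : ∑ D, (g • u (g⁻¹ • D) - u D) = 0 := by
      rw [Finset.sum_sub_distrib, sub_eq_zero, ← Finset.smul_sum]
      exact (congrArg (g • ·) (Equiv.sum_comp (MulAction.toPerm g⁻¹) u)).trans hg
    have h := hindep (fun D => g • u (g⁻¹ • D) - u D) (fun D => by
      refine AddSubgroup.sub_mem _ ?_ (hu D)
      have := AddSubgroup.smul_mem_pointwise_smul _ g _ (hu (g⁻¹ • D))
      rwa [show g • ((g⁻¹ • D : Ds) : AddSubgroup V) = D from smul_inv_smul g (D : AddSubgroup V)] at this) hsum (g • C)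
    rw [inv_smul_smul, sub_eq_zero] at h
    exact h
  refine ⟨∑ C, t C • ((col C).1 : V), ∑ C, t C • ((col C).2 : V), fun g hv hw => ?_⟩
  have hmove : ∀ C, ∃ h : H, (h : G) = (t (g • C))⁻¹ * g * t C ∧
      h • (col C).1 = (col (g • C)).1 ∧ h • (col C).2 = (col (g • C)).2 := by
    intro C
    have hst : (t (g • C))⁻¹ * g * t C ∈ H := by
      rw [mem_stabilizer_iff, mul_smul, mul_smul, ht C, inv_smul_eq_iff, ht (g • C)]
    refine ⟨⟨_, hst⟩, rfl, Subtype.ext ?_, Subtype.ext ?_⟩
    · show ((t (g • C))⁻¹ * g * t C) • ((col C).1 : V) = _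
      rw [mul_smul, mul_smul, hcomp (fun D => (col D).1) g hv C, inv_smul_smul]
    · show ((t (g • C))⁻¹ * g * t C) • ((col C).2 : V) = _
      rw [mul_smul, mul_smul, hcomp (fun D => (col D).2) g hw C, inv_smul_smul]
  have hTfix : g • T = T := by
    ext C
    rw [Set.mem_smul_set_iff_inv_smul_mem]
    obtain ⟨h, -, h1, h2⟩ := hmove (g⁻¹ • C)
    rw [smul_inv_smul] at h1 h2
    simp only [col] at h1 h2
    by_cases e1 : g⁻¹ • C ∈ T <;> by_cases e2 : C ∈ T <;> simp only [e1, e2, if_true, if_false] at h1 h2 ⊢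
    · exact absurd ⟨h1, h2⟩ (hPQ h)
    · exact absurd ⟨inv_smul_eq_iff.2 h1.symm, inv_smul_eq_iff.2 h2.symm⟩ (hPQ h⁻¹)
  have hall := hT g hTfix
  have hfixD : ∀ (C : Ds) (x : V), x ∈ (C : AddSubgroup V) → g • x = x := by
    intro C x hx
    rw [← ht' C] at hx
    obtain ⟨y, hy, rfl⟩ := hx
    show g • (t C • y) = t C • y
    obtain ⟨h, hh, h1, h2⟩ := hmove C
    rw [hall C] at hh h1 h2
    have hr : RegVec H D₀ (col C).1 (col C).2 := by
      simp only [col]
      split_ifs
      · exact hP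
      · exact hQ
    have := congrArg Subtype.val (hr h h1 h2 ⟨y, hy⟩)
    change (h : G) • y = y at this
    rw [hh, mul_smul, mul_smul, inv_smul_eq_iff] at this
    exact this
  intro x
  have htop : (⨆ C : Ds, (C : AddSubgroup V)) = ⊤ := by
    refine (hirr _ (fun g x hx => ?_)).resolve_left
      (fun h => hne D₀ hD₀ (eq_bot_iff.2 (h ▸ le_iSup (fun C : Ds => (C : AddSubgroup V)) B)))
    refine AddSubgroup.iSup_induction _ (C := fun x => g • x ∈ _) hx (fun C y hy => ?_)
      (by rw [smul_zero]; exact AddSubgroup.zero_mem _)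
      (fun y z hy hz => by rw [smul_add]; exact AddSubgroup.add_mem _ hy hz)
    exact AddSubgroup.mem_iSup_of_mem (g • C) (AddSubgroup.smul_mem_pointwise_smul y g _ hy)
  have hx : x ∈ ⨆ C : Ds, (C : AddSubgroup V) := htop ▸ AddSubgroup.mem_top x
  exact AddSubgroup.iSup_induction _ (C := fun x => g • x = x) hx hfixD (smul_zero g)
    (fun y z hy hz => by rw [smul_add, hy, hz])

end Cfsg.Agent.H52.RegPair
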