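import Cfsg.Agent.H52.RegPair.Field

/-! The scalar field attached to an abelian normal subgroup, with the semilinear action. -/

set_option autoImplicit false
set_option linter.unusedSectionVars false
set_option linter.style.haveILetI false

namespace Cfsg.Agent.H52.RegPair

universe u

variable (G : Type u) [Group G] (V : Type u) [AddCommGroup V] [DistribMulAction G V]

/-- A semilinear structure: scalars containing a normal subgroup. -/
structure SemiData (U : Subgroup G) (K : Type u) [Field K] [Module K V] where
  ι : U → K
  smul_ι : ∀ (x : U) (v : V), ι x • v = (x : G) • v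
  σ : G → K →+* K
  smul_σ : ∀ (g : G) (k : K) (v : V), g • (k • v) = σ g k • (g • v)
  σ_centralizer : ∀ g, g ∈ Subgroup.centralizer (U : Set G) → ∀ k, σ g k = k

variable {G V} [Finite G] [Finite V] [Nontrivial V]

theorem exists_semiData (hirr : Irr G V) (hnim : ¬ Imprim G V) (U : Subgroup G) [U.Normal]
    (hab : ∀ a ∈ U, ∀ b ∈ U, a * b = b * a) :
    ∃ (K : Type u) (_ : Field K) (_ : Module K V), Finite K ∧ Nonempty (SemiData G V U K) := by
  let R := nRing V U
  letI fR : Field R := (isField_nRing hirr hnim hab).toField
  haveI : Finite (AddMonoid.End V) :=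
    Finite.of_injective (fun f : V →+ V => ⇑f) DFunLike.coe_injective
  letI mR : Module R V :=
    { smul := fun a v => (a : AddMonoid.End V) v
      one_smul := fun v => rfl
      mul_smul := fun a b v => rfl
      smul_zero := fun a => map_zero (a : AddMonoid.End V)
      smul_add := fun a x y => map_add (a : AddMonoid.End V) x y
      add_smul := fun a b v => rfl
      zero_smul := fun v => rfl }
  refine ⟨R, fR, mR, Finite.of_injective _ Subtype.val_injective, ⟨?_⟩⟩
  exact
    { ι := fun x => ⟨DistribMulAction.toAddMonoidEnd G V (x : G), act_mem_nRing x.2⟩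
      smul_ι := fun x v => rfl
      σ := fun g => (conjEnd V g).restrict R R fun a ha => conjEnd_mem g ha
      smul_σ := fun g k v => by
        show g • (k : AddMonoid.End V) v = conjEnd V g (k : AddMonoid.End V) (g • v)
        rw [conjEnd_apply, inv_smul_smul]
      σ_centralizer := fun g hg k => Subtype.ext (by
        have h : Set.EqOn (conjEnd V g) (RingHom.id (AddMonoid.End V))
            (DistribMulAction.toAddMonoidEnd G V '' (U : Set G)) := by
          rintro _ ⟨x, hx, rfl⟩
          refine ((map_mul _ (g * x) g⁻¹).trans (congrArg (· * _) (map_mul _ g x))).symm.trans ?_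
          show DistribMulAction.toAddMonoidEnd G V (g * x * g⁻¹) = _
          rw [← Subgroup.mem_centralizer_iff.1 hg x hx, mul_inv_cancel_right]
          rfl
        exact RingHom.eqOn_set_closure h k.2) }

end Cfsg.Agent.H52.RegPair
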