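import Mathlib

/-! A permutation group of odd order has a regular orbit on the set of all subsets (Gluck's theorem
for odd order, by induction on the degree; the primitive case uses a regular abelian normal
subgroup). -/

set_option autoImplicit false
set_option linter.unusedSectionVars false

namespace Cfsg.Agent.H52.RegPair

open MulAction
open scoped Pointwise commutatorElement

universe u

/-- All finite groups of odd order in this universe are soluble. -/
def OddSolvable : Prop := ∀ (G : Type u) [Group G] [Finite G], Odd (Nat.card G) → Group.IsSolvable G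

variable {G : Type u} [Group G] [Finite G]

/-- An element of a group of odd order is a power of its square. -/
theorem exists_pow_sq (hG : Odd (Nat.card G)) (g : G) : ∃ k : ℕ, (g ^ 2) ^ k = g := by
  have h : Odd (orderOf g) := hG.of_dvd_nat (orderOf_dvd_natCard g)
  obtain ⟨k, hk⟩ := h
  refine ⟨k + 1, ?_⟩
  rw [← pow_mul, show 2 * (k + 1) = orderOf g + 1 by omega, pow_succ, pow_orderOf_eq_one, one_mul]

/-- Regular subsets up to the kernel. -/
def RegSubset (G : Type u) [Group G] (X : Type u) [MulAction G X] (S : Set X) : Prop :=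
  ∀ g : G, g • S = S → ∀ x : X, g • x = x

/-- A complement of a regular subset is in another orbit. -/
theorem RegSubset.smul_ne_compl {X : Type u} [MulAction G X] [Nonempty X] (hG : Odd (Nat.card G))
    {S : Set X} (hS : RegSubset G X S) (g : G) : g • S ≠ Sᶜ := by
  intro h
  have h2 : (g ^ 2) • S = S := by rw [pow_two, mul_smul, h, Set.smul_set_compl, h, compl_compl]
  obtain ⟨k, hk⟩ := exists_pow_sq hG g
  have hfix : ∀ x : X, g • x = x := fun x => by
    rw [← hk]
    exact smul_iterate_fixed (g ^ 2) x k (hS _ h2 x)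
  have hgS : g • S = S := by
    ext x
    rw [Set.mem_smul_set_iff_inv_smul_mem, show g⁻¹ • x = x by rw [inv_smul_eq_iff, hfix]]
  rw [hgS] at h
  exact ne_compl_self h
where
  smul_iterate_fixed {X : Type u} [MulAction G X] (a : G) (x : X) (k : ℕ) (ha : a • x = x) :
      a ^ k • x = x := by
    induction k with
    | zero => simp
    | succ k ih => rw [pow_succ, mul_smul, ha, ih]

variable {Ω : Type u} [MulAction G Ω] [Finite Ω]

/-- Actions of odd order groups of smaller degree have regular subsets. -/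
def Below (Ω : Type u) : Prop :=
  ∀ (X : Type u) [Finite X] (H : Type u) [Group H] [Finite H] [MulAction H X],
    Nat.card X < Nat.card Ω → Odd (Nat.card H) → ∃ S : Set X, RegSubset H X S

/-- Splitting along an invariant set. -/
theorem regSubset_of_invariant (hG : Odd (Nat.card G)) (ih : Below Ω) {Δ : Set Ω}
    (hΔ : ∀ (g : G) x, x ∈ Δ → g • x ∈ Δ) (h0 : Δ.Nonempty) (h1 : Δ ≠ Set.univ) :
    ∃ S : Set Ω, RegSubset G Ω S := by
  classical
  have hΔ' : ∀ (g : G) x, x ∈ Δᶜ → g • x ∈ Δᶜ := fun g x hx h => hx (by simpa using hΔ g⁻¹ _ h)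
  let A₁ : SubMulAction G Ω := ⟨Δ, fun g x hx => hΔ g x hx⟩
  let A₂ : SubMulAction G Ω := ⟨Δᶜ, fun g x hx => hΔ' g x hx⟩
  obtain ⟨a, ha⟩ := h0
  obtain ⟨b, hb⟩ := (Set.ne_univ_iff_exists_notMem _).1 h1
  obtain ⟨S₁, hS₁⟩ := ih A₁ G (Finite.card_subtype_lt (x := b) hb) hG
  obtain ⟨S₂, hS₂⟩ := ih A₂ G (Finite.card_subtype_lt (x := a) (fun h => h ha)) hG
  refine ⟨{x | (∃ h : x ∈ Δ, (⟨x, h⟩ : A₁) ∈ S₁) ∨ ∃ h : x ∈ Δᶜ, (⟨x, h⟩ : A₂) ∈ S₂}, fun g hg x => ?_⟩
  have e₁ : g • S₁ = S₁ := by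
    ext ⟨y, hy⟩
    have h := Set.ext_iff.1 hg y
    rw [Set.mem_smul_set_iff_inv_smul_mem] at h ⊢
    simp only [Set.mem_ofPred_eq] at h
    constructor
    · intro hm
      rcases h.1 (Or.inl ⟨hΔ g⁻¹ y hy, hm⟩) with ⟨_, h'⟩ | ⟨h', _⟩
      · exact h'
      · exact absurd hy h'
    · intro hm
      rcases h.2 (Or.inl ⟨hy, hm⟩) with ⟨_, h'⟩ | ⟨h', _⟩
      · exact h'
      · exact absurd (hΔ g⁻¹ y hy) h'
  have e₂ : g • S₂ = S₂ := by
    ext ⟨y, hy⟩
    have h := Set.ext_iff.1 hg y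
    rw [Set.mem_smul_set_iff_inv_smul_mem] at h ⊢
    simp only [Set.mem_ofPred_eq] at h
    constructor
    · intro hm
      rcases h.1 (Or.inr ⟨hΔ' g⁻¹ y hy, hm⟩) with ⟨h', _⟩ | ⟨_, h'⟩
      · exact absurd h' hy
      · exact h'
    · intro hm
      rcases h.2 (Or.inr ⟨hy, hm⟩) with ⟨h', _⟩ | ⟨_, h'⟩
      · exact absurd h' (hΔ' g⁻¹ y hy)
      · exact h'
  by_cases hx : x ∈ Δ
  · exact congrArg Subtype.val (hS₁ g e₁ ⟨x, hx⟩)
  · exact congrArg Subtype.val (hS₂ g e₂ ⟨x, hx⟩)

/-- Colouring the blocks of a system of imprimitivity. -/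
theorem regSubset_of_block [IsPretransitive G Ω] (hG : Odd (Nat.card G)) (ih : Below Ω)
    {B : Set Ω} (hB : IsBlock G B) (h2 : B.Nontrivial) (hu : B ≠ Set.univ) :
    ∃ S : Set Ω, RegSubset G Ω S := by
  classical
  obtain ⟨b0, hb0⟩ := h2.nonempty
  have hprod := hB.ncard_block_mul_ncard_orbit_eq h2.nonempty
  have hBcard : 2 ≤ B.ncard := Set.one_lt_ncard_iff_nontrivial.2 h2
  have hΩpos : 0 < Nat.card Ω := Finite.card_pos_iff.2 ⟨b0⟩
  have horb : Nat.card (orbit G B) < Nat.card Ω := by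
    rw [Nat.card_coe_set_eq, ← hprod]
    have hpos : 0 < (orbit G B).ncard := (Set.ncard_pos (Set.toFinite _)).2 ⟨B, mem_orbit_self B⟩
    exact (Nat.lt_mul_iff_one_lt_left hpos).2 hBcard
  obtain ⟨T₀, hT₀⟩ := ih (orbit G B) G horb hG
  let HB := stabilizer G B
  have hHB : ∀ (h : HB) x, x ∈ B → h • x ∈ B := fun h x hx => by
    rw [Subgroup.smul_def]
    have hh : (h : G) • B = B := h.2
    exact hh ▸ Set.smul_mem_smul_set hx
  let Bs : SubMulAction HB Ω := ⟨B, fun h x hx => hHB h x hx⟩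
  obtain ⟨c0, hc0⟩ := (Set.ne_univ_iff_exists_notMem _).1 hu
  obtain ⟨S₁, hS₁⟩ := ih Bs HB (Finite.card_subtype_lt (x := c0) hc0)
    (hG.of_dvd_nat (Subgroup.card_subgroup_dvd_card _))
  haveI : Nonempty Bs := ⟨⟨b0, hb0⟩⟩
  have hne : ∀ h : HB, h • S₁ ≠ S₁ᶜ :=
    hS₁.smul_ne_compl (hG.of_dvd_nat (Subgroup.card_subgroup_dvd_card _))
  choose t ht' using fun C : orbit G B => C.2
  have ht : ∀ C : orbit G B, t C • B = (C : Set Ω) := ht'
  have hblk : ∀ (x : Ω) (C D : orbit G B), x ∈ (C : Set Ω) → x ∈ (D : Set Ω) → C = D := by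
    intro x C D hC hD
    rw [← ht C] at hC
    rw [← ht D] at hD
    refine Subtype.ext ((ht C).symm.trans (Eq.trans ?_ (ht D)))
    exact hB.smul_eq_smul_of_nonempty ⟨x, hC, hD⟩
  let col : orbit G B → Set Bs := fun C => if C ∈ T₀ then S₁ else S₁ᶜ
  have hmem : ∀ (C : orbit G B) x, x ∈ (C : Set Ω) → (t C)⁻¹ • x ∈ B := fun C x hx => by
    rw [← Set.mem_smul_set_iff_inv_smul_mem]
    rw [ht C]; exact hx
  let S : Set Ω := {x | ∃ (C : orbit G B) (h : x ∈ (C : Set Ω)),
    (⟨(t C)⁻¹ • x, hmem C x h⟩ : Bs) ∈ col C}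
  refine ⟨S, fun g hg => ?_⟩
  have hmove : ∀ C : orbit G B, ∃ h : HB, (h : G) = (t (g • C))⁻¹ * g * t C ∧ h • col C = col (g • C) := by
    intro C
    have hst : (t (g • C))⁻¹ * g * t C ∈ HB := by
      rw [mem_stabilizer_iff, mul_smul, mul_smul, inv_smul_eq_iff]
      exact (congrArg (g • ·) (ht C)).trans (ht (g • C)).symm
    refine ⟨⟨_, hst⟩, rfl, ?_⟩
    ext ⟨y, hy⟩
    rw [Set.mem_smul_set_iff_inv_smul_mem]
    have hy' : t (g • C) • y ∈ ((g • C : orbit G B) : Set Ω) := ht (g • C) ▸ Set.smul_mem_smul_set hy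
    have hy'' : g⁻¹ • t (g • C) • y ∈ (C : Set Ω) := by
      rw [← Set.mem_smul_set_iff_inv_smul_mem]
      exact hy'
    have h := Set.ext_iff.1 hg (t (g • C) • y)
    rw [Set.mem_smul_set_iff_inv_smul_mem] at h
    have key1 : g⁻¹ • t (g • C) • y ∈ S ↔ (⟨(t C)⁻¹ • g⁻¹ • t (g • C) • y, hmem C _ hy''⟩ : Bs) ∈ col C := by
      constructor
      · rintro ⟨D, hD, hD'⟩
        obtain rfl : D = C := hblk _ D C hD hy''
        exact hD'
      · exact fun h => ⟨C, hy'', h⟩
    have key2 : t (g • C) • y ∈ S ↔ (⟨y, hy⟩ : Bs) ∈ col (g • C) := by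
      constructor
      · rintro ⟨D, hD, hD'⟩
        obtain rfl : D = g • C := hblk _ D (g • C) hD hy'
        simpa using hD'
      · exact fun h => ⟨g • C, hy', by simpa using h⟩
    rw [← key2, ← h, key1]
    have e : (((⟨_, hst⟩ : HB)⁻¹ • (⟨y, hy⟩ : Bs) : Bs) : Ω) = (t C)⁻¹ • g⁻¹ • t (g • C) • y := by
      show ((t (g • C))⁻¹ * g * t C)⁻¹ • y = _
      rw [mul_inv_rev, mul_inv_rev, inv_inv, mul_smul, mul_smul]
    rw [show (⟨(t C)⁻¹ • g⁻¹ • t (g • C) • y, hmem C _ hy''⟩ : Bs) = (⟨_, hst⟩ : HB)⁻¹ • (⟨y, hy⟩ : Bs)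
      from Subtype.ext e.symm]
  have hTfix0 : g • T₀ = T₀ := by
    ext C
    rw [Set.mem_smul_set_iff_inv_smul_mem]
    obtain ⟨h, -, hcol⟩ := hmove (g⁻¹ • C)
    rw [smul_inv_smul] at hcol
    simp only [col] at hcol
    by_cases h1 : g⁻¹ • C ∈ T₀ <;> by_cases h2 : C ∈ T₀ <;> simp only [h1, h2, if_true, if_false] at hcol ⊢
    · exact absurd hcol (hne h)
    · refine absurd ?_ (hne h⁻¹)
      rw [inv_smul_eq_iff, hcol]
  have hall := hT₀ g hTfix0
  intro x
  obtain ⟨k, hk⟩ := MulAction.exists_smul_eq G b0 x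
  let C : orbit G B := ⟨k • B, mem_orbit B k⟩
  have hxC : x ∈ (C : Set Ω) := hk ▸ Set.smul_mem_smul_set hb0
  obtain ⟨h, hh, hcol⟩ := hmove C
  rw [hall C] at hh hcol
  have hfixh : h • S₁ = S₁ := by
    simp only [col] at hcol
    by_cases h1 : C ∈ T₀
    · simpa only [h1, if_true] using hcol
    · simp only [h1, if_false, Set.smul_set_compl] at hcol
      exact compl_injective hcol
  have hz := congrArg Subtype.val (hS₁ h hfixh ⟨(t C)⁻¹ • x, hmem C x hxC⟩)
  change (h : G) • (t C)⁻¹ • x = (t C)⁻¹ • x at hz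
  rw [hh, mul_smul, mul_smul, smul_inv_smul, inv_smul_eq_iff, smul_inv_smul] at hz
  exact hz

/-- A minimal normal subgroup of a soluble group: abelian, of prime exponent. -/
theorem exists_normal_elementary [Nontrivial G] [hs : Group.IsSolvable G] :
    ∃ (N : Subgroup G) (p : ℕ), N.Normal ∧ N ≠ ⊥ ∧ p.Prime ∧
      (∀ a ∈ N, ∀ b ∈ N, a * b = b * a) ∧ ∀ a ∈ N, a ^ p = 1 := by
  classical
  obtain ⟨n, hn⟩ := hs.solvable
  have hex : ∃ k, derivedSeries G k = ⊥ := ⟨n, hn⟩
  have hk0 : Nat.find hex ≠ 0 := fun h => by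
    have := Nat.find_spec hex
    rw [h, derivedSeries_zero] at this
    exact top_ne_bot this
  set N := derivedSeries G (Nat.find hex - 1) with hN
  have hNne : N ≠ ⊥ := Nat.find_min hex (by omega)
  have hcomm : ∀ a ∈ N, ∀ b ∈ N, a * b = b * a := by
    intro a ha b hb
    have h1 : ⁅a, b⁆ ∈ derivedSeries G (Nat.find hex - 1 + 1) := by
      rw [derivedSeries_succ]; exact Subgroup.commutator_mem_commutator ha hb
    rw [show Nat.find hex - 1 + 1 = Nat.find hex by omega, Nat.find_spec hex, Subgroup.mem_bot] at h1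
    exact commutatorElement_eq_one_iff_mul_comm.1 h1
  haveI hNn : N.Normal := derivedSeries_normal G _
  obtain ⟨p, hp, hpd⟩ := Nat.exists_prime_and_dvd
    (show Nat.card N ≠ 1 from fun h => hNne (Subgroup.eq_bot_of_card_eq N h))
  haveI := Fact.mk hp
  obtain ⟨a, ha⟩ := exists_prime_orderOf_dvd_card' p hpd
  let M : Subgroup G :=
    { carrier := {x | x ∈ N ∧ x ^ p = 1}
      one_mem' := ⟨N.one_mem, one_pow p⟩
      mul_mem' := fun {x y} hx hy => ⟨N.mul_mem hx.1 hy.1, by
        rw [(show Commute x y from hcomm x hx.1 y hy.1).mul_pow, hx.2, hy.2, one_mul]⟩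
      inv_mem' := fun {x} hx => ⟨N.inv_mem hx.1, by rw [inv_pow, hx.2, inv_one]⟩ }
  refine ⟨M, p, ⟨fun x hx g => ⟨hNn.conj_mem x hx.1 g, by rw [conj_pow, hx.2, mul_one, mul_inv_cancel]⟩⟩,
    ?_, hp, fun x hx y hy => hcomm x hx.1 y hy.1, fun x hx => hx.2⟩
  intro h
  have hpa : (a : G) ^ p = 1 := by rw [← ha, ← Subgroup.orderOf_coe, pow_orderOf_eq_one]
  have hm : (a : G) ∈ M := ⟨a.2, hpa⟩
  rw [h, Subgroup.mem_bot, ← orderOf_eq_one_iff, Subgroup.orderOf_coe, ha] at hm
  exact hp.one_lt.ne' hm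

/-- Primitive groups: pairs of inverse elements of a regular abelian normal subgroup. -/
theorem regSubset_of_primitive [FaithfulSMul G Ω] [IsPreprimitive G Ω] [Nontrivial Ω]
    (hG : Odd (Nat.card G)) (hs : Group.IsSolvable G) (ih : Below Ω) :
    ∃ S : Set Ω, RegSubset G Ω S := by
  classical
  haveI : Nontrivial G := by
    by_contra hne
    rw [not_nontrivial_iff_subsingleton] at hne
    obtain ⟨a, b, hab⟩ := exists_pair_ne Ω
    obtain ⟨g, hg⟩ := MulAction.exists_smul_eq G a b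
    exact hab (by rw [← hg, Subsingleton.elim g 1, one_smul])
  obtain ⟨N, p, hNn, hNne, hp, hcomm, hexp⟩ := exists_normal_elementary (G := G)
  haveI := hNn
  haveI : IsPretransitive N Ω := by
    refine IsQuasiPreprimitive.isPretransitive_of_normal (fun hfix => hNne ?_)
    refine (Subgroup.eq_bot_iff_forall N).2 fun x hx => eq_of_smul_eq_smul (α := Ω) fun a => ?_
    have ha : a ∈ fixedPoints N Ω := hfix ▸ Set.mem_univ a
    rw [one_smul]
    exact ha ⟨x, hx⟩
  have ω : Ω := Classical.arbitrary Ω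
  letI : CommGroup N := { (inferInstance : Group N) with
    mul_comm := fun a b => Subtype.ext (hcomm a a.2 b b.2) }
  have hfree : ∀ x : N, x • ω = ω → x = 1 := by
    intro x hx
    refine Subtype.ext (eq_of_smul_eq_smul (α := Ω) fun a => ?_)
    obtain ⟨y, rfl⟩ := MulAction.exists_smul_eq N ω a
    rw [OneMemClass.coe_one, one_smul]
    show x • y • ω = y • ω
    rw [← mul_smul, mul_comm, mul_smul, hx]
  have hinj : Function.Injective fun x : N => x • ω := fun x y h => by
    have h' : x • ω = y • ω := h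
    exact (inv_mul_eq_one.1 (hfree (y⁻¹ * x) (by rw [mul_smul, h', inv_smul_smul]))).symm
  letI : Fintype N := Fintype.ofFinite _
  have hNodd : Odd (Nat.card N) := hG.of_dvd_nat (Subgroup.card_subgroup_dvd_card N)
  have hself : ∀ x : N, x⁻¹ = x → x = 1 := fun x hx => by
    obtain ⟨k, hk⟩ := exists_pow_sq hNodd x
    rw [← hk, pow_two]
    nth_rewrite 1 [← hx]
    rw [inv_mul_cancel, one_pow]
  -- the stabiliser acts on the pairs
  let H := stabilizer G ω
  let cj : G → N → N := fun h x => ⟨h * x * h⁻¹, hNn.conj_mem x x.2 h⟩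
  have cj1 : ∀ x, cj 1 x = x := fun x => Subtype.ext (by simp [cj])
  have cjm : ∀ a b x, cj (a * b) x = cj a (cj b x) := fun a b x => Subtype.ext (by simp [cj, mul_assoc])
  have cjmul : ∀ a x y, cj a (x * y) = cj a x * cj a y := fun a x y => Subtype.ext (by simp [cj, mul_assoc])
  have cjinv : ∀ a x, cj a x⁻¹ = (cj a x)⁻¹ := fun a x => Subtype.ext (by simp [cj, mul_assoc])
  let X := {s : Set N // ∃ x : N, x ≠ 1 ∧ s = {x, x⁻¹}}
  letI : MulAction H X :=
    { smul := fun h s => ⟨cj h '' s.1, by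
        obtain ⟨x, hx, hs'⟩ := s.2
        refine ⟨cj h x, fun e => hx ?_, by rw [hs', Set.image_pair, cjinv]⟩
        have := congrArg (cj (h : G)⁻¹) e
        rw [← cjm, inv_mul_cancel, cj1] at this
        rw [this]
        exact Subtype.ext (by simp [cj])⟩
      one_smul := fun s => Subtype.ext (by
        show cj ((1 : H) : G) '' s.1 = s.1
        rw [OneMemClass.coe_one, Set.image_congr fun x _ => cj1 x, Set.image_id'])
      mul_smul := fun a b s => Subtype.ext (by
        show cj ((a * b : H) : G) '' s.1 = cj a '' (cj b '' s.1)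
        rw [Set.image_image]
        exact Set.image_congr fun x _ => cjm a b x) }
  have hXlt : Nat.card X < Nat.card Ω := by
    refine lt_of_lt_of_le ?_ (Nat.card_le_card_of_injective _ hinj)
    choose f hf hf' using fun s : X => s.2
    have h1 : Nat.card X ≤ Nat.card {x : N // x ≠ 1} :=
      Nat.card_le_card_of_injective (fun s : X => (⟨f s, hf s⟩ : {x : N // x ≠ 1})) (fun s s' h =>
        Subtype.ext (by rw [hf' s, hf' s', show f s = f s' from congrArg Subtype.val h]))
    exact h1.trans_lt (Finite.card_subtype_lt (x := 1) (by simp))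
  obtain ⟨T, hT⟩ := ih X H hXlt (hG.of_dvd_nat (Subgroup.card_subgroup_dvd_card _))
  let S0 : Finset N := Finset.univ.filter fun x => ∃ s ∈ T, x ∈ s.1
  have h1S0 : (1 : N) ∉ S0 := by
    intro h
    obtain ⟨s, -, hs1⟩ := (Finset.mem_filter.1 h).2
    obtain ⟨x, hx, hs'⟩ := s.2
    rw [hs'] at hs1
    rcases hs1 with h | h
    · exact hx h.symm
    · exact hx (inv_eq_one.1 h.symm)
  have hinvS0 : ∀ x ∈ S0, x⁻¹ ∈ S0 := by
    intro x hx
    obtain ⟨s, hs', hxs⟩ := (Finset.mem_filter.1 hx).2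
    refine Finset.mem_filter.2 ⟨Finset.mem_univ _, s, hs', ?_⟩
    obtain ⟨y, -, hs''⟩ := s.2
    rw [hs''] at hxs ⊢
    rcases hxs with h | h
    · exact Or.inr (show x⁻¹ = y⁻¹ by rw [h])
    · exact Or.inl (show x⁻¹ = y by rw [show x = y⁻¹ from h, inv_inv])
  have hprod0 : ∏ x ∈ S0, x = 1 :=
    Finset.prod_involution (fun x _ => x⁻¹) (fun x _ => mul_inv_cancel x)
      (fun x _ hx h => hx (hself x h)) hinvS0 (fun x _ => inv_inv x)
  obtain ⟨Sn, hSn1, hSnp, hSnmem⟩ : ∃ Sn : Finset N, ∏ x ∈ Sn, x = 1 ∧ ¬ p ∣ Sn.card ∧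
      ∀ x, x ≠ 1 → (x ∈ Sn ↔ x ∈ S0) := by
    by_cases hpS : p ∣ S0.card
    · refine ⟨insert 1 S0, by rw [Finset.prod_insert h1S0, hprod0, one_mul], ?_, fun x hx => by
        simp [Finset.mem_insert, hx]⟩
      rw [Finset.card_insert_of_notMem h1S0]
      intro h
      exact hp.not_dvd_one ((Nat.dvd_add_right hpS).1 h)
    · exact ⟨S0, hprod0, hpS, fun _ _ => Iff.rfl⟩
  refine ⟨(fun x : N => x • ω) '' (Sn : Set N), fun g hg => ?_⟩
  obtain ⟨n, hn⟩ := MulAction.exists_smul_eq N ω (g • ω)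
  let h : H := ⟨(n : G)⁻¹ * g, by rw [mem_stabilizer_iff, mul_smul, ← hn]; exact inv_smul_smul (n : G) ω⟩
  have hact : ∀ x : N, g • (x • ω) = (n * cj h x) • ω := by
    intro x
    show g • ((x : G) • ω) = ((n : G) * ((h : G) * x * (h : G)⁻¹)) • ω
    have hh : (h : G) • ω = ω := h.2
    have hh' : (h : G)⁻¹ • ω = ω := by rw [inv_smul_eq_iff, hh]
    rw [← mul_smul g, ← mul_assoc, ← mul_assoc, show (n : G) * (h : G) = g from mul_inv_cancel_left _ _,
      mul_smul (g * (x : G)) (h : G)⁻¹ ω, hh']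
  have hφinj : Function.Injective fun x : N => n * cj h x := fun x y e => by
    have e' := congrArg (cj (h : G)⁻¹) (mul_left_cancel e)
    rwa [← cjm, ← cjm, inv_mul_cancel, cj1, cj1] at e'
  have himg : Sn.image (fun x => n * cj h x) = Sn := by
    refine Finset.eq_of_subset_of_card_le (fun y hy => ?_)
      (by rw [Finset.card_image_of_injective _ hφinj])
    obtain ⟨x, hx, rfl⟩ := Finset.mem_image.1 hy
    have hm : g • (x • ω) ∈ (fun x : N => x • ω) '' (Sn : Set N) := by
      rw [← hg]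
      exact Set.smul_mem_smul_set ⟨x, hx, rfl⟩
    obtain ⟨z, hz, hz'⟩ := hm
    rw [hact] at hz'
    exact hinj hz' ▸ hz
  have hn1 : n = 1 := by
    have e1 : ∏ x ∈ Sn, n * cj h x = 1 := by
      have hpi := Finset.prod_image (f := fun y : N => y) (g := fun x => n * cj h x) (s := Sn)
        (fun x _ y _ e => hφinj e)
      rw [himg] at hpi
      exact hpi.symm.trans hSn1
    rw [Finset.prod_mul_distrib, Finset.prod_const] at e1
    have e2 : ∏ x ∈ Sn, cj h x = 1 := by
      have e3 : ∀ s : Finset N, ∏ x ∈ s, cj h x = cj h (∏ x ∈ s, x) := by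
        intro s
        induction s using Finset.induction_on with
        | empty => exact Subtype.ext (by simp [cj])
        | insert a s ha ihs => rw [Finset.prod_insert ha, Finset.prod_insert ha, ihs, cjmul]
      rw [e3, hSn1]
      exact Subtype.ext (by simp [cj])
    rw [e2, mul_one] at e1
    have hnp : n ^ p = 1 := Subtype.ext (by rw [SubgroupClass.coe_pow]; exact hexp n n.2)
    have := pow_gcd_eq_one.2 ⟨e1, hnp⟩
    rwa [(Nat.Coprime.symm (hp.coprime_iff_not_dvd.2 hSnp)), pow_one] at this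
  subst hn1
  simp only [one_mul] at himg hact
  have hcj0 : ∀ x : N, x ∈ S0 → cj h x ∈ S0 := by
    intro x hx
    have hx1 : x ≠ 1 := fun e => h1S0 (e ▸ hx)
    have hne1 : cj h x ≠ 1 := fun e => hx1 (by
      have := congrArg (cj (h : G)⁻¹) e
      rw [← cjm, inv_mul_cancel, cj1] at this
      rw [this]; exact Subtype.ext (by simp [cj]))
    refine (hSnmem _ hne1).1 ?_
    rw [← himg]
    exact Finset.mem_image_of_mem _ ((hSnmem x hx1).2 hx)
  have hT' : h • T = T := by
    refine Set.eq_of_subset_of_ncard_le ?_ (by rw [Set.ncard_smul_set]) (Set.toFinite _)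
    rintro _ ⟨s, hs', rfl⟩
    obtain ⟨x, hx, hsx⟩ := s.2
    have hxS : x ∈ S0 := Finset.mem_filter.2 ⟨Finset.mem_univ _, s, hs', by rw [hsx]; exact Or.inl rfl⟩
    obtain ⟨s', hs'', hms⟩ := (Finset.mem_filter.1 (hcj0 x hxS)).2
    obtain ⟨y, hy, hsy⟩ := s'.2
    have heq : h • s = s' := by
      refine Subtype.ext ?_
      show cj h '' s.1 = s'.1
      rw [hsx, Set.image_pair, cjinv, hsy]
      rw [hsy] at hms
      rcases hms with e | e
      · rw [e]
      · rw [show cj (h : G) x = y⁻¹ from e, inv_inv, Set.pair_comm]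
    show h • s ∈ T
    rw [heq]; exact hs''
  have hfix := hT h hT'
  have hsq : ∀ x : N, cj ((h : G) * h) x = x := by
    intro x
    by_cases hx : x = 1
    · subst hx; exact Subtype.ext (by simp [cj])
    have e := congrArg Subtype.val (hfix ⟨{x, x⁻¹}, x, hx, rfl⟩)
    have hm : cj (h : G) x ∈ ({x, x⁻¹} : Set N) := by
      have : cj (h : G) x ∈ cj (h : G) '' ({x, x⁻¹} : Set N) := ⟨x, Or.inl rfl, rfl⟩
      exact (Set.ext_iff.1 e _).1 this
    rw [cjm]
    rcases hm with e' | e'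
    · rw [e', e']
    · rw [show cj (h : G) x = x⁻¹ from e', cjinv, show cj (h : G) x = x⁻¹ from e', inv_inv]
  have hh2 : (h : G) * h = 1 := by
    refine eq_of_smul_eq_smul (α := Ω) fun a => ?_
    obtain ⟨x, rfl⟩ := MulAction.exists_smul_eq N ω a
    have hh : (h : G) • ω = ω := h.2
    have h1 := congrArg (fun z : N => (z : G) • ω) (hsq x)
    simp only [cj] at h1
    rw [one_smul]
    show ((h : G) * h) • ((x : G) • ω) = (x : G) • ω
    have hh' : ((h : G) * h)⁻¹ • ω = ω := by rw [inv_smul_eq_iff, mul_smul, hh, hh]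
    rw [mul_smul _ ((h : G) * h)⁻¹ ω, hh', mul_smul _ (x : G) ω] at h1
    exact h1
  have hh1 : (h : G) = 1 := by
    obtain ⟨k, hk⟩ := exists_pow_sq hG (h : G)
    rw [← hk, pow_two, hh2, one_pow]
  intro a
  have hg1 : g = 1 := by
    have : ((1 : N) : G)⁻¹ * g = 1 := hh1
    simpa using this
  rw [hg1, one_smul]

/-- Every group of odd order has a regular orbit on subsets, up to the kernel. -/
theorem exists_regSubset (hsol : OddSolvable.{u}) : ∀ (G : Type u) [Group G] [Finite G]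
    (Ω : Type u) [MulAction G Ω] [Finite Ω], Odd (Nat.card G) → ∃ S : Set Ω, RegSubset G Ω S := by
  suffices h : ∀ n, ∀ (Ω : Type u) [Finite Ω] (G : Type u) [Group G] [Finite G] [MulAction G Ω],
      Nat.card Ω = n → Odd (Nat.card G) → ∃ S : Set Ω, RegSubset G Ω S from
    fun G _ _ Ω _ _ hG => h _ Ω G rfl hG
  intro n
  induction n using Nat.strong_induction_on with
  | _ n ih =>
    intro Ω _ G _ _ _ hn hG
    subst hn
    have ih' : Below Ω := fun X _ H _ _ _ hX hH => ih _ hX X H rfl hH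
    rcases subsingleton_or_nontrivial Ω with hs | hnt
    · exact ⟨∅, fun g _ x => Subsingleton.elim _ _⟩
    by_cases htr : IsPretransitive G Ω
    swap
    · obtain ⟨a, b, hab⟩ : ∃ a b : Ω, ∀ g : G, g • a ≠ b := by
        by_contra hno
        push Not at hno
        exact htr ⟨hno⟩
      exact regSubset_of_invariant hG ih' (Δ := orbit G a) (fun g x hx => mapsTo_smul_orbit g a hx)
        ⟨a, mem_orbit_self a⟩ (fun h => by
          obtain ⟨g, hg⟩ : b ∈ orbit G a := h ▸ Set.mem_univ b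
          exact hab g hg)
    by_cases hpr : IsPreprimitive G Ω
    swap
    · obtain ⟨B, hB, hBt⟩ : ∃ B : Set Ω, IsBlock G B ∧ ¬ IsTrivialBlock B := by
        by_contra hno
        push Not at hno
        exact hpr { isTrivialBlock_of_isBlock := fun {B} hB => hno B hB }
      simp only [IsTrivialBlock, not_or, Set.not_subsingleton_iff] at hBt
      exact regSubset_of_block hG ih' hB hBt.1 hBt.2
    let φ := MulAction.toPermHom G Ω
    have hodd : Odd (Nat.card φ.range) :=
      hG.of_dvd_nat (Subgroup.card_dvd_of_surjective _ φ.rangeRestrict_surjective)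
    haveI : IsPreprimitive φ.range Ω := IsPreprimitive.of_surjective (φ := φ.rangeRestrict)
      (f := ({ toFun := id, map_smul' := fun _ _ => rfl } : Ω →ₑ[φ.rangeRestrict] Ω)) Function.surjective_id
    obtain ⟨S, hS⟩ := regSubset_of_primitive (G := φ.range) hodd (hsol _ hodd)
      (fun X _ H _ _ _ hX hH => ih _ hX X H rfl hH)
    exact ⟨S, fun g hg x => hS (φ.rangeRestrict g) hg x⟩

end Cfsg.Agent.H52.RegPair
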